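import Cfsg.Agent.H378.SmallTor_m3
import Mathlib
import Cfsg.Agent.H540.E8C.Centre
import Cfsg.Agent.ChevalleyStructure.JacAll
import Cfsg.Agent.Lib.NodupNat
import Cfsg.Agent.Prune
set_option linter.all false

section
prune_inst 0x7ffbf9fafffeefffffff7e7faedcfdfc1bba7fffa4dffd43ffe063ff0bdf13988dedf38d0df0b0ff1fd6c09450a87b03fb7eefffe86fdc7ffffdfff41ffbee4ff5f7350811d488341f340ff683f07f886f3fffffffffffffffffffffffffffbeffffffffffff

-- part: H943/LatFix
section
prune_inst 0x601000000000000000050010001c0400000000000b8000180006000686100000400620400008021006000400000000000000000000000000000000011900a08000100010000004260081801000100000000000000000000000000000041000000000000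
set_option linter.all false
open scoped Cfsg.Agent.FastGrp

/-!
# The roots killed by a character of prime order with a Frobenius eigenvalue of large order (helper943, S5921)

`χ` a character of the root lattice `ℤ^l`, `χ (w x) = χ x ^ q`, of prime order `ℓ ∤ |W|`, `ℓ ∣ Φ_m(q)`, `l = φ(m) + 2`:
there are at most 12 roots `a` with `χ a = 1`.
-/

set_option autoImplicit false
set_option linter.unusedSectionVars false

namespace Cfsg.Agent.H943.LatFix

open CoxeterSystem Cfsg.Agent.ChevalleyStructure.CoxeterGeom Cfsg.Agent.Tits.Roots Cfsg.Agent.Tits.Core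
  Cfsg.Agent.Nodes.Reps Cfsg.Agent.Nodes.BNOf Polynomial
open Cfsg.Agent.H378.TorDual Cfsg.Agent.H378.LatCyc Cfsg.Agent.H378.LatRoot

universe u

variable {l : ℕ}

/-- **Independence.** -/
theorem linInd {m : ℕ} (hm : 0 < m) {w : Module.End ℤ (Fin l → ℤ)} {v : Fin l → ℤ} (hv : v ≠ 0)
    (h : aeval w (cyclotomic m ℤ) v = 0) : LinearIndependent ℚ fun i : Fin m.totient => vq ((w ^ (i : ℕ)) v) := by
  have hv' : vq v ≠ 0 := fun h0 => hv (vq_eq_zero.1 h0)
  have h' : aeval (toQ w) (cyclotomic m ℚ) (vq v) = 0 := by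
    rw [← map_cyclotomic_int m ℚ, ← toQ_aeval, toQ_vq, h]
    exact vq_eq_zero.2 rfl
  rw [Fintype.linearIndependent_iff]
  intro c hc
  obtain ⟨P, hP⟩ : ∃ P : ℚ[X], P = ∑ i : Fin m.totient, C (c i) * X ^ (i : ℕ) := ⟨_, rfl⟩
  have hPv : aeval (toQ w) P (vq v) = 0 := by
    rw [hP, map_sum, LinearMap.sum_apply, ← hc]
    refine Finset.sum_congr rfl fun i _ => ?_
    rw [map_mul, aeval_C, map_pow, aeval_X, Module.End.mul_apply, Module.algebraMap_end_apply]
    congr 1
    rw [← map_pow, toQ_vq]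
  have hdeg : P.degree < m.totient := by
    rw [hP]
    exact degree_sum_fin_lt c
  have hP0 : P = 0 := by
    by_contra hne
    rcases (cyclotomic.irreducible_rat hm).isCoprime_or_dvd P with h1 | h1
    · obtain ⟨a, b, hab⟩ := h1
      apply hv'
      have h2 : aeval (toQ w) (a * cyclotomic m ℚ + b * P) (vq v) = vq v := by
        rw [hab, map_one, Module.End.one_apply]
      rw [← h2, map_add, map_mul, map_mul, LinearMap.add_apply, Module.End.mul_apply, Module.End.mul_apply, h', hPv,
        map_zero, map_zero, add_zero]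
    · have h2 := degree_le_of_dvd h1 hne
      rw [degree_cyclotomic] at h2
      exact absurd hdeg (not_lt.2 h2)
  intro i
  have h3 : P.coeff i = c i := by
    rw [hP, finsetSum_coeff, Finset.sum_eq_single i]
    · rw [coeff_C_mul, coeff_X_pow, if_pos rfl, mul_one]
    · intro j _ hj
      rw [coeff_C_mul, coeff_X_pow, if_neg (fun h0 => hj (Fin.ext h0.symm)), mul_zero]
    · intro hi
      exact absurd (Finset.mem_univ i) hi
  rw [← h3, hP0, coeff_zero]

/-! ### the form -/

/-- the rational form -/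
def ipQ (A : Fin l → Fin l → ℤ) (x y : Fin l → ℚ) : ℚ := ∑ i, x i * ∑ j, (A i j : ℚ) * y j

/-- the integral form -/
def ip (A : Fin l → Fin l → ℤ) (x y : Fin l → ℤ) : ℤ := ∑ i, x i * pairing A i y

theorem ipQ_vq (A : Fin l → Fin l → ℤ) (x y : Fin l → ℤ) : ipQ A (vq x) (vq y) = (ip A x y : ℚ) := by
  unfold ipQ ip pairing vq
  push_cast
  rfl

theorem ipQ_add_left (A : Fin l → Fin l → ℤ) (x x' y : Fin l → ℚ) : ipQ A (x + x') y = ipQ A x y + ipQ A x' y := by
  unfold ipQ
  rw [← Finset.sum_add_distrib]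
  refine Finset.sum_congr rfl fun i _ => ?_
  rw [Pi.add_apply, add_mul]

theorem ipQ_smul_left (A : Fin l → Fin l → ℤ) (c : ℚ) (x y : Fin l → ℚ) : ipQ A (c • x) y = c * ipQ A x y := by
  unfold ipQ
  rw [Finset.mul_sum]
  refine Finset.sum_congr rfl fun i _ => ?_
  rw [Pi.smul_apply, smul_eq_mul, mul_assoc]

theorem ipQ_symm {A : Fin l → Fin l → ℤ} (hA : ∀ i j, A i j = A j i) (x y : Fin l → ℚ) : ipQ A x y = ipQ A y x := by
  unfold ipQ
  simp only [Finset.mul_sum]
  rw [Finset.sum_comm]
  refine Finset.sum_congr rfl fun i _ => Finset.sum_congr rfl fun j _ => ?_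
  rw [hA j i]
  ring

theorem ip_symm {A : Fin l → Fin l → ℤ} (hA : ∀ i j, A i j = A j i) (x y : Fin l → ℤ) : ip A x y = ip A y x := by
  have h := ipQ_symm hA (vq x) (vq y)
  rw [ipQ_vq, ipQ_vq] at h
  exact_mod_cast h

theorem ip_add_left (A : Fin l → Fin l → ℤ) (x x' y : Fin l → ℤ) : ip A (x + x') y = ip A x y + ip A x' y := by
  unfold ip
  rw [← Finset.sum_add_distrib]
  refine Finset.sum_congr rfl fun i _ => ?_
  rw [Pi.add_apply, add_mul]

theorem ip_smul_left (A : Fin l → Fin l → ℤ) (c : ℤ) (x y : Fin l → ℤ) : ip A (c • x) y = c * ip A x y := by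
  unfold ip
  rw [Finset.mul_sum]
  refine Finset.sum_congr rfl fun i _ => ?_
  rw [Pi.smul_apply, smul_eq_mul, mul_assoc]

theorem ip_neg_left (A : Fin l → Fin l → ℤ) (x y : Fin l → ℤ) : ip A (-x) y = -ip A x y := by
  have h := ip_smul_left A (-1) x y
  rw [neg_one_smul] at h
  rw [h]; ring

theorem ip_sub_left (A : Fin l → Fin l → ℤ) (x x' y : Fin l → ℤ) : ip A (x - x') y = ip A x y - ip A x' y := by
  rw [sub_eq_add_neg, ip_add_left, ip_neg_left]; ring

theorem ip_sum_left {A : Fin l → Fin l → ℤ} {ι : Type*} (s : Finset ι) (f : ι → Fin l → ℤ) (y : Fin l → ℤ) :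
    ip A (∑ i ∈ s, f i) y = ∑ i ∈ s, ip A (f i) y := by
  classical
  induction s using Finset.induction_on with
  | empty =>
    rw [Finset.sum_empty, Finset.sum_empty]
    unfold ip
    simp only [_root_.Pi.zero_apply, _root_.MulZeroClass.zero_mul, _root_.Finset.sum_const_zero]
  | insert a s ha ih => rw [Finset.sum_insert ha, Finset.sum_insert ha, ip_add_left, ih]

theorem ip_sr (A : Fin l → Fin l → ℤ) (i : Fin l) (y : Fin l → ℤ) : ip A (sr i) y = pairing A i y := by
  unfold ip sr
  rw [Finset.sum_eq_single i]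
  · rw [Pi.single_eq_same, one_mul]
  · intro j _ hj
    rw [Pi.single_eq_of_ne hj, zero_mul]
  · intro h
    exact absurd (Finset.mem_univ i) h

variable {W : Type*} [Group W] {M : CoxeterMatrix (Fin l)} {cs : CoxeterSystem M W}
  {A : Fin l → Fin l → ℤ} {h : IsCartan M A} {k : Type u} [Field k]

theorem ip_refl (hA : ∀ i j, A i j = A j i) (h2 : ∀ i, A i i = 2) (i : Fin l) (x y : Fin l → ℤ) :
    ip A (refl A i x) (refl A i y) = ip A x y := by
  have e1 : ∀ z : Fin l → ℤ, refl A i z = z - pairing A i z • sr i := fun z => by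
    rw [refl_apply, single_eq_smul]
    rfl
  have e2 : ip A (sr i) (sr i) = 2 := by
    rw [ip_sr]
    unfold pairing sr
    rw [Finset.sum_eq_single i]
    · rw [Pi.single_eq_same, mul_one, h2]
    · intro j _ hj
      rw [Pi.single_eq_of_ne hj, mul_zero]
    · intro h
      exact absurd (Finset.mem_univ i) h
  rw [e1, e1, ip_sub_left, ip_smul_left, ip_symm hA x, ip_sub_left, ip_smul_left, ip_sr, ip_symm hA (sr i),
    ip_sub_left, ip_smul_left, e2, ip_symm hA y, ip_symm hA y (sr i), ip_sr]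
  ring

theorem ip_rep (hA : ∀ i j, A i j = A j i) (h2 : ∀ i, A i i = 2) (v : W) (x y : Fin l → ℤ) :
    ip A (rep cs h v x) (rep cs h v y) = ip A x y := by
  induction v using cs.simple_induction_left generalizing x y with
  | one => rw [map_one]; rfl
  | mul_simple_left w i ih =>
    rw [rep_mul_apply, rep_mul_apply, rep_simple, ip_refl hA h2, ih]

theorem ip_rep' (hA : ∀ i j, A i j = A j i) (h2 : ∀ i, A i i = 2) (v : W) (x y : Fin l → ℤ) :
    ip A x (rep cs h v y) = ip A (rep cs h v⁻¹ x) y := by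
  rw [← ip_rep (cs := cs) (h := h) hA h2 v (rep cs h v⁻¹ x) y, rep_apply_inv]

theorem ip_root (hA : ∀ i j, A i j = A j i) (h2 : ∀ i, A i i = 2) {a : Fin l → ℤ} (ha : _root_.Cfsg.Agent.Tits.Roots.IsRoot cs h a) : ip A a a = 2 := by
  obtain ⟨v, i, rfl⟩ := ha
  rw [ip_rep hA h2, ip_sr]
  unfold pairing sr
  rw [Finset.sum_eq_single i]
  · rw [Pi.single_eq_same, mul_one, h2]
  · intro j _ hj
    rw [Pi.single_eq_of_ne hj, mul_zero]
  · intro h
    exact absurd (Finset.mem_univ i) h

/-! ### the roots killed by a character -/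

/-- the orthogonal space of the roots killed by `χ` -/
def UU (cs : CoxeterSystem M W) (h : IsCartan M A) (χ : Ch l k) : Submodule ℤ (Fin l → ℤ) where
  carrier := {u | ∀ a, _root_.Cfsg.Agent.Tits.Roots.IsRoot cs h a → χ (Multiplicative.ofAdd a) = 1 → ip A u a = 0}
  zero_mem' a _ _ := by
    have := ip_smul_left A 0 0 a
    rwa [zero_smul, zero_mul] at this
  add_mem' {x y} hx hy a ha h1 := by rw [ip_add_left, hx a ha h1, hy a ha h1, add_zero]
  smul_mem' c x hx a ha h1 := by rw [ip_smul_left, hx a ha h1, mul_zero]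

section

variable [Finite W]

noncomputable local instance fintypeStab' (χ : Ch l k) : Fintype ↥(stab cs h χ) := Fintype.ofFinite _

theorem ip_avg (hA : ∀ i j, A i j = A j i) (h2 : ∀ i, A i i = 2) (χ : Ch l k) (x y : Fin l → ℤ) :
    ip A (avg cs h χ x) y = ip A (avg cs h χ y) x := by
  rw [ip_symm hA (avg cs h χ y) x]
  have e1 : avg cs h χ x = ∑ v : ↥(stab cs h χ), rep cs h v.1 x := by
    unfold avg
    rw [LinearMap.sum_apply]
  have e2 : avg cs h χ y = ∑ v : ↥(stab cs h χ), rep cs h v.1 y := by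
    unfold avg
    rw [LinearMap.sum_apply]
  rw [e1, e2, ip_sum_left, ip_symm hA x, ip_sum_left]
  refine Fintype.sum_equiv (Equiv.inv _) _ _ fun v => ?_
  rw [ip_symm hA (rep cs h _ y), ip_rep' hA h2]
  show _ = ip A (rep cs h ((v⁻¹ : ↥(stab cs h χ)).1)⁻¹ x) y
  rw [show ((v⁻¹ : ↥(stab cs h χ)).1)⁻¹ = v.1 by simp]

theorem avg_mem_UU (hA : ∀ i j, A i j = A j i) (h2 : ∀ i, A i i = 2) (χ : Ch l k) (x : Fin l → ℤ) :
    avg cs h χ x ∈ UU cs h χ := by
  intro a ha h1
  rw [ip_avg hA h2, avg_root ha h1]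
  have := ip_smul_left A 0 0 x
  rwa [zero_smul, zero_mul] at this

theorem rep_mem_UU (hA : ∀ i j, A i j = A j i) (h2 : ∀ i, A i i = 2) {χ : Ch l k} {w : W} {q : ℤ} {ℓ : ℕ}
    (hℓ : ℓ.Prime) (hq : ¬ (ℓ : ℤ) ∣ q) (hχℓ : χ ^ ℓ = 1)
    (hχ : χ ∈ KerOf k (rep cs h w - q • (1 : Module.End ℤ (Fin l → ℤ)))) {u : Fin l → ℤ} (hu : u ∈ UU cs h χ) :
    rep cs h w u ∈ UU cs h χ := by
  intro a ha h1
  rw [ip_symm hA, ip_rep' hA h2, ip_symm hA]
  refine hu _ (ha.act _) ?_
  have h3 := kerOf_aeval hχ X (rep cs h w⁻¹ a)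
  rw [aeval_X, rep_apply_inv, h1, eval_X] at h3
  have h4 : χ (Multiplicative.ofAdd (rep cs h w⁻¹ a)) ^ ℓ = 1 := by rw [← MonoidHom.pow_apply, hχℓ, MonoidHom.one_apply]
  by_contra hne
  have hord : orderOf (χ (Multiplicative.ofAdd (rep cs h w⁻¹ a))) = ℓ :=
    ((Nat.dvd_prime hℓ).1 (orderOf_dvd_of_pow_eq_one h4)).resolve_left fun h5 => hne (orderOf_eq_one_iff.1 h5)
  apply hq
  rw [← hord]
  exact orderOf_dvd_iff_zpow_eq_one.2 h3.symm

theorem aeval_mem {U : Submodule ℤ (Fin l → ℤ)} {w : Module.End ℤ (Fin l → ℤ)} (hU : ∀ x ∈ U, w x ∈ U) (P : ℤ[X])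
    {x : Fin l → ℤ} (hx : x ∈ U) : aeval w P x ∈ U := by
  induction P using Polynomial.induction_on' with
  | add p q hp hq =>
    rw [map_add, LinearMap.add_apply]
    exact add_mem hp hq
  | monomial n a =>
    rw [aeval_monomial, Module.End.mul_apply, Module.algebraMap_end_apply]
    refine U.smul_mem _ ?_
    induction n with
    | zero => exact hx
    | succ n ih =>
      rw [pow_succ']
      exact hU _ ih

/-- a vector of `UU` killed by the cyclotomic polynomial -/
theorem exists_v0 (hA : ∀ i j, A i j = A j i) (h2 : ∀ i, A i i = 2) {m : ℕ} (hm : 0 < m) {w : W} {ℓ : ℕ}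
    (hℓ : ℓ.Prime) (hℓW : ¬ ℓ ∣ Nat.card W) (hℓm : ¬ ℓ ∣ m) {q : ℤ}
    (hq : (ℓ : ℤ) ∣ (cyclotomic m ℤ).eval q) (hq0 : ¬ (ℓ : ℤ) ∣ q) {χ : Ch l k}
    (hχ : χ ∈ KerOf k (rep cs h w - q • (1 : Module.End ℤ (Fin l → ℤ)))) (hχ1 : χ ≠ 1) (hχℓ : χ ^ ℓ = 1) :
    ∃ v : Fin l → ℤ, v ≠ 0 ∧ aeval (rep cs h w) (cyclotomic m ℤ) v = 0 ∧ v ∈ UU cs h χ := by
  set N := Nat.card W with hNdef
  have hN : 0 < N := Nat.card_pos
  obtain ⟨R, hR⟩ := cyclotomic.dvd_X_pow_sub_one m ℤ
  obtain ⟨S, hS⟩ : (X ^ m - 1 : ℤ[X]) ∣ X ^ (N * m) - 1 := by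
    have := sub_dvd_pow_sub_pow (X ^ m : ℤ[X]) 1 N
    rwa [one_pow, ← pow_mul, mul_comm m N] at this
  obtain ⟨Q, hQ⟩ : ∃ Q : ℤ[X], X ^ (N * m) - 1 = cyclotomic m ℤ * Q := ⟨R * S, by rw [hS, hR, mul_assoc]⟩
  have hNm : ¬ ℓ ∣ N * m := fun h => (hℓ.dvd_mul.1 h).elim hℓW hℓm
  have hw : rep cs h w ^ N = 1 := by rw [← map_pow, hNdef, pow_card_eq_one', map_one]
  have hzero : ∀ x, aeval (rep cs h w) (cyclotomic m ℤ) (aeval (rep cs h w) Q x) = 0 := by
    intro x
    rw [← Module.End.mul_apply, ← map_mul, ← hQ, map_sub, map_pow, aeval_X, map_one, pow_mul, hw, one_pow, sub_self,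
      LinearMap.zero_apply]
  obtain ⟨x, hx⟩ : ∃ x : Fin l → ℤ, χ (Multiplicative.ofAdd x) ≠ 1 := by
    by_contra hcon
    push Not at hcon
    exact hχ1 (MonoidHom.ext fun x => hcon (Multiplicative.toAdd x))
  obtain ⟨y, hy⟩ : ∃ y, y = avg cs h χ x := ⟨_, rfl⟩
  have hcop : (Nat.card ↥(stab cs h χ)).Coprime ℓ :=
    ((Nat.Prime.coprime_iff_not_dvd hℓ).2 fun h2 => hℓW (h2.trans (Subgroup.card_subgroup_dvd_card _))).symm
  have hyne : χ (Multiplicative.ofAdd y) ≠ 1 := by
    intro h3
    rw [hy, chi_avg] at h3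
    exact hx (pow_eq_one_of_coprime h3 (by rw [← MonoidHom.pow_apply, hχℓ, MonoidHom.one_apply]) hcop)
  have hyU : y ∈ UU cs h χ := by rw [hy]; exact avg_mem_UU hA h2 χ x
  refine ⟨aeval (rep cs h w) Q y, ?_, hzero y, aeval_mem (fun z hz => rep_mem_UU hA h2 hℓ hq0 hχℓ hχ hz) Q hyU⟩
  intro hcase
  have hord : orderOf (χ (Multiplicative.ofAdd y)) = ℓ := by
    have h1 : χ (Multiplicative.ofAdd y) ^ ℓ = 1 := by
      rw [← MonoidHom.pow_apply, hχℓ, MonoidHom.one_apply]
    exact ((Nat.dvd_prime hℓ).1 (orderOf_dvd_of_pow_eq_one h1)).resolve_left fun h2 => hyne (orderOf_eq_one_iff.1 h2)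
  have hdvd : ∀ P : ℤ[X], aeval (rep cs h w) P y = 0 → (ℓ : ℤ) ∣ P.eval q := by
    intro P hP
    have h1 := kerOf_aeval hχ P y
    rw [hP, ofAdd_zero, map_one] at h1
    rw [← hord]
    exact orderOf_dvd_iff_zpow_eq_one.2 h1.symm
  have hQq := hdvd Q hcase
  have hd := congrArg (fun P : ℤ[X] => (derivative P).eval q) hQ
  simp only [derivative_sub, derivative_X_pow, derivative_one, sub_zero, derivative_mul, eval_add, eval_mul,
    eval_pow, eval_X, eval_C] at hd
  have h1 : (ℓ : ℤ) ∣ ((N * m : ℕ) : ℤ) * q ^ (N * m - 1) := by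
    have h3 : ((N * m : ℕ) : ℤ) * q ^ (N * m - 1) = eval q (derivative (cyclotomic m ℤ)) * eval q Q +
        eval q (cyclotomic m ℤ) * eval q (derivative Q) := hd
    rw [h3]
    exact dvd_add (Dvd.dvd.mul_left hQq _) (Dvd.dvd.mul_right hq _)
  have hℓ' : Prime (ℓ : ℤ) := Nat.prime_iff_prime_int.1 hℓ
  rcases hℓ'.dvd_mul.1 h1 with h2 | h2
  · exact hNm (by exact_mod_cast h2)
  · exact hq0 (hℓ'.dvd_of_dvd_pow h2)

/-- the span of the roots killed by `χ` meets the orthogonal space trivially -/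
theorem no_three (hA : ∀ i j, A i j = A j i) (h2 : ∀ i, A i i = 2)
    (hpos : ∀ x : Fin l → ℚ, ipQ A x x = 0 → x = 0) {m : ℕ} (hm : 0 < m) (hl : l = m.totient + 2) {w : W} {ℓ : ℕ}
    (hℓ : ℓ.Prime) (hℓW : ¬ ℓ ∣ Nat.card W) (hℓm : ¬ ℓ ∣ m) {q : ℤ}
    (hq : (ℓ : ℤ) ∣ (cyclotomic m ℤ).eval q) (hq0 : ¬ (ℓ : ℤ) ∣ q) {χ : Ch l k}
    (hχ : χ ∈ KerOf k (rep cs h w - q • (1 : Module.End ℤ (Fin l → ℤ)))) (hχ1 : χ ≠ 1) (hχℓ : χ ^ ℓ = 1)
    {a : Fin 3 → (Fin l → ℤ)} (ha : ∀ i, ∀ u ∈ UU cs h χ, ip A u (a i) = 0) :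
    ¬ LinearIndependent ℚ fun i => vq (a i) := by
  intro hli
  obtain ⟨v, hv0, hv, hvU⟩ := exists_v0 hA h2 hm hℓ hℓW hℓm hq hq0 hχ hχ1 hχℓ
  have hvi : ∀ i : ℕ, (rep cs h w ^ i) v ∈ UU cs h χ := by
    intro i
    induction i with
    | zero => exact hvU
    | succ n ih =>
      rw [pow_succ']
      exact rep_mem_UU hA h2 hℓ hq0 hχℓ hχ ih
  have h3 := linInd hm hv0 hv
  have key : ∀ x ∈ Submodule.span ℚ (Set.range fun i => vq (a i)), ∀ y ∈ Submodule.span ℚ
      (Set.range fun i : Fin m.totient => vq ((rep cs h w ^ (i : ℕ)) v)), ipQ A x y = 0 := by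
    intro x hx y hy
    refine Submodule.span_induction ?_ ?_ ?_ ?_ hx
    · rintro _ ⟨i, rfl⟩
      refine Submodule.span_induction ?_ ?_ ?_ ?_ hy
      · rintro _ ⟨j, rfl⟩
        show ipQ A (vq (a i)) (vq _) = 0
        rw [ipQ_symm hA, ipQ_vq, ha i _ (hvi j), Int.cast_zero]
      · rw [ipQ_symm hA]
        have := ipQ_smul_left A 0 0 (vq (a i))
        rwa [zero_smul, zero_mul] at this
      · intro y z _ _ hy hz
        rw [ipQ_symm hA, ipQ_add_left, ipQ_symm hA, hy, ipQ_symm hA, hz, add_zero]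
      · intro c y _ hy
        rw [ipQ_symm hA, ipQ_smul_left, ipQ_symm hA, hy, mul_zero]
    · have := ipQ_smul_left A 0 0 y
      rwa [zero_smul, zero_mul] at this
    · intro x z _ _ hx hz
      rw [ipQ_add_left, hx, hz, add_zero]
    · intro c x _ hx
      rw [ipQ_smul_left, hx, mul_zero]
  have hdis : Disjoint (Submodule.span ℚ (Set.range fun i => vq (a i))) (Submodule.span ℚ
      (Set.range fun i : Fin m.totient => vq ((rep cs h w ^ (i : ℕ)) v))) := by
    rw [Submodule.disjoint_def]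
    intro x hx hy
    exact hpos x (key x hx x hy)
  have h4 := (hli.sum_type h3 hdis).fintype_card_le_finrank
  rw [Fintype.card_sum, Fintype.card_fin, Fintype.card_fin, Module.finrank_fintype_fun_eq_card, Fintype.card_fin] at h4
  omega

theorem UU_of_root (hA : ∀ i j, A i j = A j i) {χ : Ch l k} {a : Fin l → ℤ} (ha : _root_.Cfsg.Agent.Tits.Roots.IsRoot cs h a)
    (h1 : χ (Multiplicative.ofAdd a) = 1) : ∀ u ∈ UU cs h χ, ip A u a = 0 := fun u hu => hu a ha h1

/-- **At most 12 roots are killed.** -/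
theorem card_le (hA : ∀ i j, A i j = A j i) (h2 : ∀ i, A i i = 2)
    (hpos : ∀ x : Fin l → ℚ, ipQ A x x = 0 → x = 0) (hnn : ∀ x : Fin l → ℤ, 0 ≤ ip A x x)
    {m : ℕ} (hm : 0 < m) (hl : l = m.totient + 2) {w : W} {ℓ : ℕ}
    (hℓ : ℓ.Prime) (hℓW : ¬ ℓ ∣ Nat.card W) (hℓm : ¬ ℓ ∣ m) {q : ℤ}
    (hq : (ℓ : ℤ) ∣ (cyclotomic m ℤ).eval q) (hq0 : ¬ (ℓ : ℤ) ∣ q) {χ : Ch l k}
    (hχ : χ ∈ KerOf k (rep cs h w - q • (1 : Module.End ℤ (Fin l → ℤ)))) (hχ1 : χ ≠ 1) (hχℓ : χ ^ ℓ = 1)
    (Z : Finset (Fin l → ℤ)) (hZ : ∀ a ∈ Z, _root_.Cfsg.Agent.Tits.Roots.IsRoot cs h a ∧ χ (Multiplicative.ofAdd a) = 1) : Z.card ≤ 12 := by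
  classical
  have hpos' : ∀ x : Fin l → ℤ, ip A x x = 0 → x = 0 := by
    intro x hx
    have h3 := hpos (vq x) (by rw [ipQ_vq, hx, Int.cast_zero])
    exact vq_eq_zero.1 h3
  -- inner products of roots
  have hsub : ∀ a b : Fin l → ℤ, ip A a a = 2 → ip A b b = 2 → ip A (a - b) (a - b) = 4 - 2 * ip A a b := by
    intro a b ha hb
    rw [ip_sub_left, ip_symm hA a, ip_symm hA b, ip_sub_left, ip_sub_left, ha, hb, ip_symm hA b a]
    ring
  have hadd : ∀ a b : Fin l → ℤ, ip A a a = 2 → ip A b b = 2 → ip A (a + b) (a + b) = 4 + 2 * ip A a b := by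
    intro a b ha hb
    rw [ip_add_left, ip_symm hA a, ip_symm hA b, ip_add_left, ip_add_left, ha, hb, ip_symm hA b a]
    ring
  have hbd : ∀ a b : Fin l → ℤ, ip A a a = 2 → ip A b b = 2 → -2 ≤ ip A a b ∧ ip A a b ≤ 2 ∧
      (ip A a b = 2 → b = a) ∧ (ip A a b = -2 → b = -a) := by
    intro a b ha hb
    have h3 := hnn (a - b)
    have h4 := hnn (a + b)
    rw [hsub a b ha hb] at h3
    rw [hadd a b ha hb] at h4
    refine ⟨by omega, by omega, fun h5 => ?_, fun h5 => ?_⟩
    · have h6 := hpos' (a - b) (by rw [hsub a b ha hb]; omega)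
      exact (sub_eq_zero.1 h6).symm
    · have h6 := hpos' (a + b) (by rw [hadd a b ha hb]; omega)
      exact (neg_eq_of_add_eq_zero_right h6).symm
  have hroot : ∀ a ∈ Z, ip A a a = 2 := fun a ha => ip_root hA h2 (hZ a ha).1
  rcases Z.eq_empty_or_nonempty with rfl | ⟨a, ha⟩
  · simp
  by_cases hall : ∀ b ∈ Z, b = a ∨ b = -a
  · have h3 : Z ⊆ {a, -a} := by
      intro b hb
      rw [Finset.mem_insert, Finset.mem_singleton]
      exact hall b hb
    exact (Finset.card_le_card h3).trans ((Finset.card_le_two).trans (by norm_num))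
  push Not at hall
  obtain ⟨b, hb, hba, hba'⟩ := hall
  have haa := hroot a ha
  have hbb := hroot b hb
  obtain ⟨g1, g2, g3, g4⟩ := hbd a b haa hbb
  have hg3 : ip A a b ≠ 2 := fun h => hba (g3 h)
  have hg4 : ip A a b ≠ -2 := fun h => hba' (g4 h)
  obtain ⟨g, hg⟩ : ∃ g, g = ip A a b := ⟨_, rfl⟩
  rw [← hg] at g1 g2 hg3 hg4
  have hgr : g = -1 ∨ g = 0 ∨ g = 1 := by omega
  -- injectivity
  have hinj : ∀ u : Fin l → ℤ, (∀ y ∈ UU cs h χ, ip A y u = 0) → ip A a u = 0 → ip A b u = 0 → u = 0 := by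
    intro u hu hau hbu
    by_contra hu0
    have huu : ip A u u ≠ 0 := fun h => hu0 (hpos' u h)
    have hab : ∀ i, ∀ y ∈ UU cs h χ, ip A y ((![a, b, u] : Fin 3 → Fin l → ℤ) i) = 0 := by
      intro i
      fin_cases i
      · exact UU_of_root hA (hZ a ha).1 (hZ a ha).2
      · exact UU_of_root hA (hZ b hb).1 (hZ b hb).2
      · exact hu
    refine no_three hA h2 hpos hm hl hℓ hℓW hℓm hq hq0 hχ hχ1 hχℓ hab ?_
    rw [Fintype.linearIndependent_iff]
    intro c hc
    rw [Fin.sum_univ_three] at hc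
    have hc' : c 0 • vq a + c 1 • vq b + c 2 • vq u = 0 := hc
    have key : ∀ y : Fin l → ℤ, c 0 * (ip A a y : ℚ) + c 1 * (ip A b y : ℚ) + c 2 * (ip A u y : ℚ) = 0 := by
      intro y
      rw [← ipQ_vq, ← ipQ_vq, ← ipQ_vq, ← ipQ_smul_left, ← ipQ_smul_left, ← ipQ_smul_left, ← ipQ_add_left,
        ← ipQ_add_left, hc']
      have := ipQ_smul_left A 0 0 (vq y)
      rwa [zero_smul, zero_mul] at this
    have k1 := key u
    have k2 := key a
    have k3 := key b
    rw [hau, hbu, Int.cast_zero, mul_zero, mul_zero, zero_add, zero_add] at k1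
    have hc2 : c 2 = 0 := (mul_eq_zero.1 k1).resolve_right (by exact_mod_cast huu)
    rw [haa, ip_symm hA b a, ← hg, hc2, zero_mul, add_zero] at k2
    rw [hbb, ← hg, hc2, zero_mul, add_zero] at k3
    have h01 : c 0 = 0 ∧ c 1 = 0 := by
      rcases hgr with h | h | h <;> rw [h] at k2 k3 <;> push_cast at k2 k3 <;> constructor <;> linarith only [k2, k3]
    intro i
    fin_cases i
    · exact h01.1
    · exact h01.2
    · exact hc2
  -- the map
  let f : (Fin l → ℤ) → ℤ × ℤ := fun c => (ip A a c, ip A b c)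
  have hf : Set.InjOn f ↑Z := by
    intro c hc d hd hcd
    have hc1 : ip A a c = ip A a d := congrArg Prod.fst hcd
    have hc2 : ip A b c = ip A b d := congrArg Prod.snd hcd
    have h3 := hinj (c - d) (by
      intro y hy
      rw [ip_symm hA, ip_sub_left, ip_symm hA c, ip_symm hA d, hy c (hZ c hc).1 (hZ c hc).2,
        hy d (hZ d hd).1 (hZ d hd).2, sub_zero])
      (by rw [ip_symm hA, ip_sub_left, ip_symm hA c, ip_symm hA d, hc1, sub_self])
      (by rw [ip_symm hA, ip_sub_left, ip_symm hA c, ip_symm hA d, hc2, sub_self])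
    exact sub_eq_zero.1 h3
  let L : List (ℤ × ℤ) := [(2, g), (-2, -g), (g, 2), (-g, -2), (-1, -1), (-1, 0), (-1, 1), (0, -1), (0, 1), (1, -1),
    (1, 0), (1, 1)]
  obtain ⟨T, hTL⟩ : ∃ T : Finset (ℤ × ℤ), T = L.toFinset := ⟨_, rfl⟩
  have hT : T.card ≤ 12 := by rw [hTL]; exact List.toFinset_card_le L
  have hmaps : ∀ c ∈ Z, f c ∈ T := by
    intro c hc
    obtain ⟨a1, a2, a3, a4⟩ := hbd a c haa (hroot c hc)
    obtain ⟨b1, b2, b3, b4⟩ := hbd b c hbb (hroot c hc)
    show (ip A a c, ip A b c) ∈ T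
    rw [hTL, List.mem_toFinset]
    by_cases p1 : ip A a c = 2
    · have := a3 p1
      subst this
      rw [haa, ip_symm hA b c, ← hg]
      simp only [L, _root_.Int.reduceNeg, _root_.List.mem_cons, _root_.Prod.mk.injEq, _root_.reduceCtorEq, _root_.false_and, _root_.OfNat.ofNat_ne_zero, _root_.OfNat.ofNat_ne_one, _root_.List.not_mem_nil, _root_.or_self, _root_.or_false, _root_.false_or, _root_.true_or]
    by_cases p2 : ip A a c = -2
    · have := a4 p2
      subst this
      rw [ip_symm hA a (-a), ip_neg_left, haa, ip_symm hA b (-a), ip_neg_left, ← hg]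
      simp only [L, _root_.Int.reduceNeg, _root_.List.mem_cons, _root_.Prod.mk.injEq, _root_.reduceCtorEq, _root_.false_and, _root_.neg_inj, _root_.OfNat.ofNat_ne_one, _root_.neg_eq_zero, _root_.OfNat.ofNat_ne_zero, _root_.List.not_mem_nil, _root_.or_self, _root_.or_false, _root_.true_or, _root_.or_true]
    by_cases p3 : ip A b c = 2
    · have := b3 p3
      subst this
      rw [hbb, ← hg]
      simp only [L, _root_.Int.reduceNeg, _root_.List.mem_cons, _root_.Prod.mk.injEq, _root_.reduceCtorEq, _root_.and_false, _root_.OfNat.ofNat_ne_zero, _root_.OfNat.ofNat_ne_one, _root_.List.not_mem_nil, _root_.or_self, _root_.or_false, _root_.or_true]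
    by_cases p4 : ip A b c = -2
    · have := b4 p4
      subst this
      rw [ip_symm hA b (-b), ip_neg_left, hbb, ip_symm hA a (-b), ip_neg_left, ip_symm hA b a, ← hg]
      simp only [L, _root_.Int.reduceNeg, _root_.List.mem_cons, _root_.Prod.mk.injEq, _root_.neg_inj, _root_.reduceCtorEq, _root_.and_false, _root_.OfNat.ofNat_ne_one, _root_.neg_eq_zero, _root_.OfNat.ofNat_ne_zero, _root_.List.not_mem_nil, _root_.or_self, _root_.or_false, _root_.or_true]
    have p5 : ¬ (ip A a c = 0 ∧ ip A b c = 0) := by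
      rintro ⟨p5, p6⟩
      have h3 := hinj c (fun y hy => hy c (hZ c hc).1 (hZ c hc).2) p5 p6
      have h4 := hroot c hc
      rw [h3] at h4
      have h5 := ip_smul_left A 0 0 0
      rw [zero_smul, zero_mul] at h5
      rw [h5] at h4
      exact absurd h4 (by norm_num)
    have q1 : ip A a c = -1 ∨ ip A a c = 0 ∨ ip A a c = 1 := by (clear * - a1 a2 p1 p2; omega)
    have q2 : ip A b c = -1 ∨ ip A b c = 0 ∨ ip A b c = 1 := by (clear * - b1 b2 p3 p4; omega)
    rcases q1 with q1 | q1 | q1 <;> rcases q2 with q2 | q2 | q2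
    case inr.inl.inr.inl => exact absurd ⟨q1, q2⟩ p5
    all_goals
      rw [q1, q2]
      simp only [L, _root_.Int.reduceNeg, _root_.List.mem_cons, _root_.Prod.mk.injEq, _root_.reduceCtorEq, _root_.false_and, _root_.neg_inj, _root_.OfNat.one_ne_ofNat, _root_.and_false, _root_.neg_eq_zero, _root_.one_ne_zero, _root_.and_true, _root_.and_self, _root_.List.not_mem_nil, _root_.or_self, _root_.or_false, _root_.or_true, _root_.zero_eq_neg, _root_.OfNat.zero_ne_ofNat, _root_.OfNat.ofNat_ne_zero, _root_.zero_ne_one]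
  calc Z.card = (Z.image f).card := (Finset.card_image_of_injOn hf).symm
    _ ≤ T.card := Finset.card_le_card fun x hx => by
        obtain ⟨c, hc, rfl⟩ := Finset.mem_image.1 hx
        exact hmaps c hc
    _ ≤ 12 := hT

end

end Cfsg.Agent.H943.LatFix
end

-- part: H288/E8L/Iface
section
set_option linter.all false

/-!
# `L₂(81)` in `E₈(3)`: the regular cases, interface
-/

set_option autoImplicit false
set_option linter.unusedSectionVars false

namespace Cfsg.Agent.H288.E8L

open CoxeterSystem Cfsg Cfsg.Lie Cfsg.Lie.ChevalleyDatum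
open Cfsg.Agent.ChevalleyStructure Cfsg.Agent.ChevalleyStructure.Elts Cfsg.Agent.ChevalleyStructure.CoxeterGeom
  Cfsg.Agent.ChevalleyStructure.CoxeterGeomTypes
open Cfsg.Agent.Tits.Roots Cfsg.Agent.Tits.Core Cfsg.Agent.Nodes Cfsg.Agent.Nodes.Reps Cfsg.Agent.Nodes.BNOf
  Cfsg.Agent.Nodes.RGDChev
open Cfsg.Agent.GpExc.Field Cfsg.Agent.BpExc.TowChev Cfsg.Agent.H129.TorusChar
open Cfsg.Agent.KFacts.RgdChevCoord
open Cfsg.Agent.H942.E8Tab Cfsg.Agent.H942.E8Alc Cfsg.Agent.H942.CB Cfsg.Agent.H944.Tab Cfsg.Agent.H944.Kac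

/-- the root lattice -/
abbrev Q8 : Type := Fin 8 → ℤ

/-- the algebraic closure -/
abbrev K8 : Type := AlgebraicClosure (ZMod 3)

/-- `E₈(3)` -/
abbrev G8 : Type := ↥(chevE8.group (ZMod 3))

/-- the algebraic group -/
abbrev GK : Type := ↥(chevE8.group K8)

/-- the embedding -/
noncomputable def emb8 : G8 →* GK := emb e8T.inList (algebraMap (ZMod 3) K8)

/-- the entrywise Frobenius map -/
noncomputable def frb8 : GK →* GK := emb e8T.inList (frobenius K8 3)

/-- the matrix of an element -/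
noncomputable abbrev mx (g : GK) : Matrix chevE8.Idx chevE8.Idx K8 := ((g : GL chevE8.Idx K8) : Matrix chevE8.Idx chevE8.Idx K8)

/-- the weight of a coordinate -/
def wt : chevE8.Idx → Q8 := Sum.elim (fun _ => 0) (fun s => vec chevE8 8 s)

/-- being a root -/
abbrev Rt (a : Q8) : Prop := IsRoot cs8 e8T.isCartan a

theorem locFin8 : LocFin K8 := locFin_of_isAlgebraic 3 K8

theorem nsys8 : NSys CoxeterMatrix.E₈ (TT chevE8 K8) (nc e8T K8) := nsysT e8T locFin8 3

/-- `n` represents `w` -/
abbrev Rep (w : W8) (n : GK) : Prop := Rp cs8 nsys8 w n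

/-- the action of the Weyl group on the root lattice -/
noncomputable abbrev act8 (w : W8) (x : Q8) : Q8 := rep cs8 e8T.isCartan w x

/-- a torus element is regular -/
def Reg (t : GK) : Prop := t ∈ TT chevE8 K8 ∧ ∀ a, Rt a → cX e8T t a ≠ 1

/-- **BT**: Borel–Tits for a 3-subgroup normalised by a regular semisimple element. -/
def BT : Prop := ∀ (U : Subgroup G8) (y : G8) (z t : GK), IsPGroup 3 U → y ∈ Subgroup.normalizer (U : Set G8) →
  z⁻¹ * emb8 y * z = t → Reg t →
  ∃ f : Q8 →+ ℤ, ∀ u ∈ U, z⁻¹ * emb8 u * z ∈ RGD.Sup (XX chevE8 8 K8) {a | Rt a ∧ 0 < f a}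

/-- **NT**: an element carrying a torus element to a regular one lies in the normaliser of the torus. -/
def NT : Prop := ∀ s t n : GK, s ∈ TT chevE8 K8 → Reg t → n * s = t * n → ∃ w : W8, Rep w n

/-- **REG**: the stabiliser of an interior point of the alcove. -/
def REG : Prop := ∀ (N : ℕ) (Y : List ℕ) (ζ : K8) (t : GK) (w : W8), Y.length = 8 → (∀ i < 8, 1 ≤ Y.getD i 0) →
  dotN th8 Y < N → IsPrimitiveRoot ζ N → t ∈ TT chevE8 K8 → (∀ i : Fin 8, cX e8T t (sr i) = ζ ^ Y.getD i 0) →
  (∀ x, cX e8T t (act8 w x) = cX e8T t x) → w = 1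

/-- **FIX**: the fixed points of Frobenius. -/
def FIX : Prop := ∀ g : GK, frb8 g = g → ∃ h : G8, emb8 h = g

/-- **WT**: the representatives permute the weight spaces. -/
def WTS : Prop := ∀ (w : W8) (n : GK), Rep w n → ∀ i j, mx n i j ≠ 0 → wt i = act8 w (wt j)

/-- `-1` lies in the Weyl group -/
def NEG : Prop := ∃ w : W8, ∀ x, act8 w x = -x

end Cfsg.Agent.H288.E8L
end

-- part: H288/E8L/Brk
section
set_option linter.all false
open scoped Cfsg.Agent.FastGrp

namespace Cfsg.Agent.H90F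

private noncomputable def frc {α : Type} (x : ℕ) (f : ℕ → α) : α := Nat.rec (f 0) (fun k _ => f (Nat.succ k)) x

private theorem frc_eq {α : Type} (x : ℕ) (f : ℕ → α) : frc x f = f x := by cases x <;> rfl

private noncomputable def nth {α : Type} (d : α) (l : List α) : ℕ → α :=
  List.rec (fun _ => d) (fun a _ ih n => Nat.rec a (fun k _ => ih k) n) l

private theorem nth_eq {α : Type} (d : α) (l : List α) (n : ℕ) : nth d l n = l.getD n d := by
  induction l generalizing n with
  | nil => rfl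
  | cons a l ih => cases n with
    | zero => rfl
    | succ k => exact ih k

private theorem nth_arr {α : Type} (d : α) (a : Array α) (n : ℕ) : a.getD n d = nth d a.toList n := by
  rw [nth_eq, List.getD_eq_getElem?_getD, Array.getD_eq_getD_getElem?, Array.getElem?_toList]

private noncomputable def fgd {α : Type} (a : Array α) (n : ℕ) (d : α) : α := frc n (nth d a.toList)

private theorem gd_eq {α : Type} (a : Array α) (n : ℕ) (d : α) : a.getD n d = fgd a n d := by
  rw [fgd, frc_eq, nth_arr]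

private theorem gd_fun : @Array.getD.{0} = @fgd := by
  funext α a n d; exact gd_eq a n d

private noncomputable def dOf {P : Prop} (b : Bool) (h : b = true ↔ P) : Decidable P :=
  Bool.rec (motive := fun c => b = c → Decidable P) (fun e => isFalse fun hp => Bool.noConfusion (e.symm.trans (h.2 hp)))
    (fun e => isTrue (h.1 e)) b rfl

private noncomputable def flb {α : Type} (e : α → α → Bool) (l : List α) : List α → Bool :=
  List.rec (motive := fun _ => List α → Bool) (fun m => List.rec true (fun _ _ _ => false) m)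
    (fun a _ ih m => List.rec false (fun b m _ => Bool.rec false (ih m) (e a b)) m) l

private theorem fle_iff {α : Type} [H : DecidableEq α] (l m : List α) :
    flb (fun a b => @decide _ (H a b)) l m = true ↔ l = m := by
  induction l generalizing m with
  | nil =>
    cases m with
    | nil => exact ⟨fun _ => rfl, fun _ => rfl⟩
    | cons b m => exact ⟨fun h => Bool.noConfusion h, fun h => nomatch h⟩
  | cons a l ih =>
    cases m with
    | nil => exact ⟨fun h => Bool.noConfusion h, fun h => nomatch h⟩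
    | cons b m =>
      have e : ∀ a b : Bool, (Bool.rec false a b : Bool) = true ↔ b = true ∧ a = true := by decide
      exact (e _ _).trans ((and_congr decide_eq_true_iff (ih m)).trans List.cons_eq_cons.symm)

private theorem le_fun : @instDecidableEqList.{0} =
    fun α H l m => dOf (flb (fun a b => @decide _ (H a b)) l m) (@fle_iff α H l m) := by
  funext α H l m; exact Subsingleton.elim _ _

private noncomputable def fmp {α β : Type} (f : α → β) (l : List α) : List β := List.rec [] (fun a _ ih => f a :: ih) l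

private theorem mp_fun : @List.map.{0, 0} = @fmp := by
  funext α β f l
  induction l with
  | nil => rfl
  | cons a l ih => rw [List.map_cons, ih]; rfl

private noncomputable def ffo {α β : Type} (f : α → β → α) (a : α) (l : List β) : α :=
  List.rec (motive := fun _ => α → α) (fun a => a) (fun b _ ih a => ih (f a b)) l a

private theorem fo_fun : @List.foldl.{0, 0} = @ffo := by
  funext α β f a l
  induction l generalizing a with
  | nil => rfl
  | cons b l ih => rw [List.foldl_cons, ih]; rfl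

private theorem dn_fun : instDecidableEqNat = fun a b => dOf (Nat.beq a b) Nat.beq_eq.to_iff := by
  funext a b; exact Subsingleton.elim _ _

end Cfsg.Agent.H90F

-- part: H288/E8L/Wts
section
/-!
# Weights of the entries of root elements and of the adjoint matrices
-/

set_option autoImplicit false
set_option linter.unusedSectionVars false
set_option maxRecDepth 100000

namespace Cfsg.Agent.H288.E8L

open CoxeterSystem Cfsg Cfsg.Lie Cfsg.Lie.ChevalleyDatum
open Cfsg.Agent.ChevalleyStructure Cfsg.Agent.ChevalleyStructure.Elts Cfsg.Agent.ChevalleyStructure.CoxeterGeom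
  Cfsg.Agent.ChevalleyStructure.CoxeterGeomTypes Cfsg.Agent.ChevalleyStructure.RootVec
  Cfsg.Agent.ChevalleyStructure.RootVecTab
open Cfsg.Agent.ChevalleyStructure.Ring Cfsg.Agent.ChevalleyStructure.LieAut Cfsg.Agent.ChevalleyStructure.LieAbs
  Cfsg.Agent.ChevalleyStructure.JacMain
open Cfsg.Agent.Tits.Roots Cfsg.Agent.Tits.Core Cfsg.Agent.Nodes Cfsg.Agent.Nodes.Reps Cfsg.Agent.Nodes.BNOf
  Cfsg.Agent.Nodes.RGDChev
open Cfsg.Agent.GpExc.Field Cfsg.Agent.BpExc.TowChev Cfsg.Agent.H129.TorusChar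
open Cfsg.Agent.KFacts.RgdChevCoord
open Cfsg.Agent.H942.E8Tab Cfsg.Agent.H942.E8Alc Cfsg.Agent.H942.CB Cfsg.Agent.H944.Tab Cfsg.Agent.H944.Kac

theorem wt_inl (i : Fin chevE8.rank) : wt (Sum.inl i) = 0 := rfl
theorem wt_inr (s : Fin chevE8.nroots) : wt (Sum.inr s) = vec chevE8 8 s := rfl

theorem rt_vec (s : Fin chevE8.nroots) : Rt (vec chevE8 8 s) := isRoot_vec e8T cs8 s.2

theorem vec_ne_zero (s : Fin chevE8.nroots) : vec chevE8 8 s ≠ 0 := (rt_vec s).ne_zero

theorem exists_idx {a : Q8} (ha : Rt a) : ∃ s : Fin chevE8.nroots, vec chevE8 8 s = a := by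
  obtain ⟨r, hr, rfl⟩ := (isRoot_iff e8T cs8 a).1 ha
  exact ⟨⟨r, hr⟩, rfl⟩

theorem wt_inj {i j : chevE8.Idx} (h : wt i = wt j) (hi : wt i ≠ 0) : i = j := by
  rcases i with i | i
  · exact absurd rfl hi
  · rcases j with j | j
    · exact absurd h hi
    · exact congrArg Sum.inr (Fin.ext (vec_inj e8T i.2 j.2 h))

/-- the entries of a root element -/
theorem entry (r : Fin chevE8.nroots) (i k : chevE8.Idx) : ∃ (c : ℤ) (m : ℕ),
    (c ≠ 0 → wt i = wt k + (m : ℤ) • vec chevE8 8 r) ∧ (m = 0 → c = if i = k then 1 else 0) ∧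
    (i = k → m = 0) ∧
    ∀ (R : Type) [CommRing R] (t : R), xMatR chevE8 R r t i k = (c : R) * t ^ m := by
  have hC : Checked chevE8 := e8T.checked
  rcases k with k | s
  · rcases i with i | u
    · refine ⟨if i = k then 1 else 0, 0, fun _ => ?_, fun _ => ?_, fun _ => rfl, fun R _ t => ?_⟩
      · rw [wt_inl, wt_inl]; simp
      · by_cases h : i = k
        · rw [if_pos h, if_pos (congrArg Sum.inl h)]
        · rw [if_neg h, if_neg (fun e => h (Sum.inl.inj e))]
      · show (if i = k then (1 : R) else 0) = _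
        split_ifs <;> simp
    · by_cases hu : u = r
      · refine ⟨-((chevE8.cartanSR.getD k.val #[]).getD r.val 0), 1, fun _ => ?_, fun h => absurd h one_ne_zero,
          fun h => by simp at h, fun R _ t => ?_⟩
        · rw [wt_inl, wt_inr, hu]; simp
        · show (if u = r then - (((chevE8.cartanSR.getD k.val #[]).getD r.val 0 : ℤ) : R) * t else 0) = _
          rw [if_pos hu, Int.cast_neg, pow_one]
      · refine ⟨0, 1, fun h => absurd rfl h, fun h => absurd h one_ne_zero, fun h => by simp at h, fun R _ t => ?_⟩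
        show (if u = r then - (((chevE8.cartanSR.getD k.val #[]).getD r.val 0 : ℤ) : R) * t else 0) = _
        rw [if_neg hu]; simp
  · by_cases hsr : s = r
    · rcases i with i | u
      · refine ⟨0, 1, fun h => absurd rfl h, fun h => absurd h one_ne_zero, fun h => by simp at h, fun R _ t => ?_⟩
        show (if s = r then (0 : R) else _) = _
        rw [if_pos hsr]; simp
      · refine ⟨if u = s then 1 else 0, 0, fun h => ?_, fun _ => ?_, fun _ => rfl, fun R _ t => ?_⟩
        · have hu : u = s := by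
            by_contra hc
            rw [if_neg hc] at h
            exact h rfl
          rw [hu]; simp
        · by_cases h : u = s
          · rw [if_pos h, if_pos (congrArg Sum.inr h)]
          · rw [if_neg h, if_neg (fun e => h (Sum.inr.inj e))]
        · show (if s = r then (if u = r then (1 : R) else 0) else _) = _
          rw [if_pos hsr, ← hsr]
          split_ifs <;> simp
    · by_cases hsn : s.val = chevE8.negIdx.getD r.val 0
      · have hneg : vec chevE8 8 s = -vec chevE8 8 r := by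
          rw [hsn]; exact vec_neg e8T r.2
        rcases i with i | u
        · refine ⟨(chevE8.coroot.getD r.val #[]).getD i.val 0, 1, fun _ => ?_, fun h => absurd h one_ne_zero,
            fun h => by simp at h, fun R _ t => ?_⟩
          · rw [wt_inl, wt_inr, hneg]; simp
          · show (if s = r then (0 : R) else if s.val = chevE8.negIdx.getD r.val 0 then
              (((chevE8.coroot.getD r.val #[]).getD i.val 0 : ℤ) : R) * t else 0) = _
            rw [if_neg hsr, if_pos hsn, pow_one]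
        · by_cases hus : u = s
          · refine ⟨1, 0, fun _ => ?_, fun _ => ?_, fun _ => rfl, fun R _ t => ?_⟩
            · rw [hus]; simp
            · rw [if_pos (congrArg Sum.inr hus)]
            · show (if s = r then (if u = r then (1 : R) else 0) else if s.val = chevE8.negIdx.getD r.val 0 then
                (if u = s then 1 else if u = r then -(t ^ 2) else 0) else _) = _
              rw [if_neg hsr, if_pos hsn, if_pos hus]; simp
          · by_cases hur : u = r
            · refine ⟨-1, 2, fun _ => ?_, fun h => absurd h two_ne_zero, fun h => absurd (Sum.inr.inj h) hus,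
                fun R _ t => ?_⟩
              · rw [wt_inr, wt_inr, hneg, hur]
                push_cast
                rw [two_smul]
                abel
              · show (if s = r then (if u = r then (1 : R) else 0) else if s.val = chevE8.negIdx.getD r.val 0 then
                  (if u = s then 1 else if u = r then -(t ^ 2) else 0) else _) = _
                rw [if_neg hsr, if_pos hsn, if_neg hus, if_pos hur]; simp
            · refine ⟨0, 1, fun h => absurd rfl h, fun h => absurd h one_ne_zero,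
                fun h => absurd (Sum.inr.inj h) hus, fun R _ t => ?_⟩
              show (if s = r then (if u = r then (1 : R) else 0) else if s.val = chevE8.negIdx.getD r.val 0 then
                (if u = s then 1 else if u = r then -(t ^ 2) else 0) else _) = _
              rw [if_neg hsr, if_pos hsn, if_neg hus, if_neg hur]; simp
      · rcases i with i | u
        · refine ⟨0, 1, fun h => absurd rfl h, fun h => absurd h one_ne_zero, fun h => by simp at h, fun R _ t => ?_⟩
          show (if s = r then (0 : R) else if s.val = chevE8.negIdx.getD r.val 0 then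
              (((chevE8.coroot.getD r.val #[]).getD i.val 0 : ℤ) : R) * t else 0) = _
          rw [if_neg hsr, if_neg hsn]; simp
        · have e1 : ∀ (R : Type) [CommRing R] (t : R), xMatR chevE8 R r t (Sum.inr u) (Sum.inr s) =
              (if u = s then 1 else 0) +
              ((chevE8.chainCoeff r.val s.val u.val).map fun km => ((km.2 : ℤ) : R) * t ^ km.1).sum := by
            intro R _ t
            show (if s = r then (if u = r then (1 : R) else 0) else
              if s.val = chevE8.negIdx.getD r.val 0 then _ else _) = _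
            rw [if_neg hsr, if_neg hsn]
          have hpos : ∀ km ∈ chevE8.chainCoeff r.val s.val u.val, km.1 ≠ 0 := by
            intro km hkm
            simp only [ChevalleyDatum.chainCoeff, List.mem_flatMap, List.mem_map] at hkm
            obtain ⟨e, -, q, -, rfl⟩ := hkm
            exact Nat.succ_ne_zero _
          have hw : ∀ km ∈ chevE8.chainCoeff r.val s.val u.val,
              vec chevE8 8 u = vec chevE8 8 s + (km.1 : ℤ) • vec chevE8 8 r := by
            intro km hkm
            obtain ⟨_, h2⟩ := TorusConj.chainCoeff_wt hC hkm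
            funext j
            rw [Pi.add_apply, Pi.smul_apply, smul_eq_mul]
            exact h2 j
          rcases hl : chevE8.chainCoeff r.val s.val u.val with _ | ⟨km, l⟩
          · refine ⟨if u = s then 1 else 0, 0, fun h => ?_, fun _ => ?_, fun _ => rfl, fun R _ t => ?_⟩
            · have hu : u = s := by
                by_contra hc
                rw [if_neg hc] at h
                exact h rfl
              rw [hu]; simp
            · by_cases h : u = s
              · rw [if_pos h, if_pos (congrArg Sum.inr h)]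
              · rw [if_neg h, if_neg (fun e => h (Sum.inr.inj e))]
            · rw [e1, hl]
              split_ifs <;> simp
          · have hkm : km ∈ chevE8.chainCoeff r.val s.val u.val := by rw [hl]; exact List.mem_cons_self
            have hus : u ≠ s := by
              intro hus
              have h1 := hw km hkm
              rw [hus] at h1
              have h2 : (km.1 : ℤ) • vec chevE8 8 r = 0 := by
                have := add_eq_left.1 h1.symm
                exact this
              rcases smul_eq_zero.1 h2 with h3 | h3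
              · exact hpos km hkm (by exact_mod_cast h3)
              · exact vec_ne_zero r h3
            have hall : ∀ km' ∈ chevE8.chainCoeff r.val s.val u.val, km'.1 = km.1 := by
              intro km' hkm'
              have h1 := hw km hkm
              rw [hw km' hkm'] at h1
              have h2 : ((km'.1 : ℤ) - km.1) • vec chevE8 8 r = 0 := by
                rw [sub_smul, sub_eq_zero]
                exact add_left_cancel h1
              rcases smul_eq_zero.1 h2 with h3 | h3
              · omega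
              · exact absurd h3 (vec_ne_zero r)
            refine ⟨((chevE8.chainCoeff r.val s.val u.val).map fun q => q.2).sum, km.1, fun _ => hw km hkm,
              fun h => absurd h (hpos km hkm), fun h => absurd (Sum.inr.inj h) hus, fun R _ t => ?_⟩
            rw [e1, if_neg hus, zero_add]
            have h3 : ((chevE8.chainCoeff r.val s.val u.val).map fun q => ((q.2 : ℤ) : R) * t ^ q.1) =
                ((chevE8.chainCoeff r.val s.val u.val).map fun q => ((q.2 : ℤ) : R) * t ^ km.1) :=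
              List.map_congr_left fun q hq => by rw [hall q hq]
            rw [h3, List.sum_map_mul_right]
            congr 1
            have h4 := map_list_sum (Int.castRingHom R)
              ((chevE8.chainCoeff r.val s.val u.val).map fun q : ℕ × ℤ => q.2)
            rw [List.map_map] at h4
            exact h4.symm

/-! ### the adjoint matrices -/

open Polynomial in
theorem adR_inr_wt (s : Fin chevE8.nroots) (i k : chevE8.Idx) (h : adA chevE8 (Sum.inr s) i k ≠ 0) :
    wt i = wt (Sum.inr s) + wt k := by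
  obtain ⟨c, m, h1, -, -, h4⟩ := entry s i k
  rw [adA_inr, coefE_apply] at h
  have h5 : xR chevE8 ℤ[X] s.val X i k = (c : ℤ[X]) * X ^ m := by
    rw [← h4 ℤ[X] X]
    unfold xR
    rw [dif_pos s.2]
  rw [h5] at h
  have h6 : ((c : ℤ[X]) * X ^ m).coeff 1 = if m = 1 then c else 0 := by
    rw [← C_eq_intCast, coeff_C_mul, coeff_X_pow]
    by_cases hm : m = 1
    · subst hm; simp
    · have : ¬ 1 = m := fun e => hm e.symm
      simp [hm, this]
  rw [h6] at h
  by_cases hm : m = 1
  · rw [if_pos hm] at h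
    rw [h1 h, hm]
    push_cast
    rw [one_smul, wt_inr, add_comm]
  · rw [if_neg hm] at h
    exact absurd rfl h

/-- the Cartan integers of the coordinates -/
def crt (j : Fin chevE8.rank) : chevE8.Idx → ℤ := Sum.elim (fun _ => 0) (fun s => Columns.car chevE8 j.val s.val)

theorem adA_inl_eq (j : Fin chevE8.rank) : adA chevE8 (Sum.inl j) = Matrix.diagonal (crt j) := rfl

theorem adA_wt (j i k : chevE8.Idx) (h : adA chevE8 j i k ≠ 0) : wt i = wt j + wt k := by
  rcases j with j | s
  · rw [adA_inl_eq, Matrix.diagonal_apply] at h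
    by_cases hik : i = k
    · rw [hik, wt_inl, zero_add]
    · rw [if_neg hik] at h
      exact absurd rfl h
  · exact adR_inr_wt s i k h

variable {K : Type} [Field K]

theorem adR_wt (j i k : chevE8.Idx) (h : adR chevE8 K j i k ≠ 0) : wt i = wt j + wt k := by
  apply adA_wt j i k
  intro h0
  apply h
  rw [adR_def, Matrix.map_apply, h0, map_zero]

theorem adR_inl (j : Fin chevE8.rank) :
    adR chevE8 K (Sum.inl j) = Matrix.diagonal (fun i => ((crt j i : ℤ) : K)) := by
  rw [adR_def, adA_inl_eq, Matrix.diagonal_map (map_zero _)]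
  rfl

/-! ### the weights are separated by the torus modulo 3 -/

/-- the code of a weight modulo 3 -/
def code3 (s : ℕ) : ℕ := (List.range 8).foldl (fun a j => 3 * a + ((Columns.car chevE8 j s) % 3).toNat) 0

/-- the codes of the roots -/
def codes : List ℕ := [2, 7, 21, 63, 189, 2025, 6075, 1215, 5508, 4509, 4419, 4389, 4379, 4375, 3645, 3078, 2808, 2718, 2688, 2678, 
  2674, 297, 450, 420, 410, 406, 1557, 1608, 1598, 1594, 1491, 1508, 1504, 1469, 1474, 1461, 747, 798, 788, 
  784, 924, 941, 937, 902, 907, 894, 573, 590, 586, 632, 637, 624, 515, 520, 534, 495, 4623, 4640, 4636, 4682, 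
  4687, 4674, 4808, 4813, 4827, 4788, 5915, 5920, 5934, 5976, 5859, 5105, 5110, 5124, 5166, 5292, 4941, 2430, 
  2193, 2210, 2206, 2252, 2257, 2244, 2378, 2383, 2397, 2358, 4214, 4219, 4233, 4275, 4158, 1703, 1708, 1722, 
  1764, 1890, 810, 3404, 3409, 3423, 3465, 3591, 2511, 1136, 1141, 1155, 1197, 1080, 137, 142, 156, 117, 47, 
  52, 39, 17, 13, 4, 8, 26, 22, 78, 68, 64, 234, 204, 194, 190, 2160, 2070, 2040, 2030, 2026, 5022, 6210, 6120, 
  6090, 6080, 6076, 1620, 1350, 1260, 1230, 1220, 1216, 5400, 5553, 5523, 5513, 5509, 4473, 4524, 4514, 4510, 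
  4407, 4424, 4420, 4385, 4390, 4377, 4860, 2592, 3780, 3690, 3660, 3650, 3646, 2970, 3123, 3093, 3083, 3079, 
  2772, 2823, 2813, 2809, 2706, 2723, 2719, 2684, 2689, 2676, 261, 312, 302, 298, 438, 455, 451, 416, 421, 408, 
  1545, 1562, 1558, 1604, 1609, 1596, 1487, 1492, 1506, 1467, 735, 752, 748, 794, 799, 786, 920, 925, 939, 900, 
  569, 574, 588, 630, 513, 4619, 4624, 4638, 4680, 4806, 5913, 5103, 2189, 2194, 2208, 2250, 2376, 4212, 1701, 
  3402, 1134, 135, 45, 15, 5, 1]

theorem codes_eq0 : (List.range' 0 60).map code3 = codes.take 60 := by (delta Cfsg.Agent.ChevalleyStructure.Columns.car Cfsg.Agent.H288.E8L.code3; refine of_decide_eq_true ?_; rewrite [H90F.dn_fun, H90F.gd_fun, H90F.le_fun, H90F.mp_fun, H90F.fo_fun]; decide +kernel)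

theorem codes_eq1 : (List.range' 60 60).map code3 = (codes.drop 60).take 60 := by (delta Cfsg.Agent.ChevalleyStructure.Columns.car Cfsg.Agent.H288.E8L.code3; refine of_decide_eq_true ?_; rewrite [H90F.dn_fun, H90F.gd_fun, H90F.le_fun, H90F.mp_fun, H90F.fo_fun]; decide +kernel)

theorem codes_eq2 : (List.range' 120 60).map code3 = ((codes.drop 60).drop 60).take 60 := by (delta Cfsg.Agent.ChevalleyStructure.Columns.car Cfsg.Agent.H288.E8L.code3; refine of_decide_eq_true ?_; rewrite [H90F.dn_fun, H90F.gd_fun, H90F.le_fun, H90F.mp_fun, H90F.fo_fun]; decide +kernel)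

theorem codes_eq3 : (List.range' 180 60).map code3 = ((codes.drop 60).drop 60).drop 60 := by (delta Cfsg.Agent.ChevalleyStructure.Columns.car Cfsg.Agent.H288.E8L.code3; refine of_decide_eq_true ?_; rewrite [H90F.dn_fun, H90F.gd_fun, H90F.le_fun, H90F.mp_fun, H90F.fo_fun]; decide +kernel)

theorem codes_eq : (List.range 240).map code3 = codes := by
  have h : List.range 240 = List.range' 0 60 ++ (List.range' 60 60 ++ (List.range' 120 60 ++ List.range' 180 60)) := by
    decide +kernel
  rw [h, List.map_append, List.map_append, List.map_append, codes_eq0, codes_eq1, codes_eq2, codes_eq3,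
    List.take_append_drop, List.take_append_drop, List.take_append_drop]

theorem codes_nodup : codes.Nodup :=
  Cfsg.Agent.NodupNat.of_go (by decide +kernel)

theorem codes_pos : ∀ c ∈ codes, c ≠ 0 := by decide +kernel

end Cfsg.Agent.H288.E8L
end

-- part: H288/E8L/Sep
section
/-!
# Separation of the weights, root elements are unitriangular for a functional, brackets of root vectors
-/

set_option autoImplicit false
set_option linter.unusedSectionVars false
set_option maxRecDepth 100000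

namespace Cfsg.Agent.H288.E8L

open CoxeterSystem Cfsg Cfsg.Lie Cfsg.Lie.ChevalleyDatum
open Cfsg.Agent.ChevalleyStructure Cfsg.Agent.ChevalleyStructure.Elts Cfsg.Agent.ChevalleyStructure.CoxeterGeom
  Cfsg.Agent.ChevalleyStructure.CoxeterGeomTypes Cfsg.Agent.ChevalleyStructure.RootVec
  Cfsg.Agent.ChevalleyStructure.RootVecTab
open Cfsg.Agent.ChevalleyStructure.Ring Cfsg.Agent.ChevalleyStructure.LieAut Cfsg.Agent.ChevalleyStructure.LieAbs
  Cfsg.Agent.ChevalleyStructure.JacMain
open Cfsg.Agent.Tits.Roots Cfsg.Agent.Tits.Core Cfsg.Agent.Nodes Cfsg.Agent.Nodes.Reps Cfsg.Agent.Nodes.BNOf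
  Cfsg.Agent.Nodes.RGDChev
open Cfsg.Agent.GpExc.Field Cfsg.Agent.BpExc.TowChev Cfsg.Agent.H129.TorusChar
open Cfsg.Agent.KFacts.RgdChevCoord
open Cfsg.Agent.H942.E8Tab Cfsg.Agent.H942.E8Alc Cfsg.Agent.H942.CB Cfsg.Agent.H944.Tab Cfsg.Agent.H944.Kac
open Matrix

theorem rank8 : chevE8.rank = 8 := rfl
theorem nroots8 : chevE8.nroots = 240 := rfl

/-! ### separation -/

theorem foldl_congr (f g : ℕ → ℕ) : ∀ (l : List ℕ) (_ : ∀ j ∈ l, f j = g j) (a : ℕ),
    l.foldl (fun a j => 3 * a + f j) a = l.foldl (fun a j => 3 * a + g j) a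
  | [], _, _ => rfl
  | j :: l, h, a => by
    rw [List.foldl_cons, List.foldl_cons, h j List.mem_cons_self]
    exact foldl_congr f g l (fun i hi => h i (List.mem_cons_of_mem _ hi)) _

theorem code_eq_of {s u : ℕ} (h : ∀ j < 8, (Columns.car chevE8 j s) % 3 = (Columns.car chevE8 j u) % 3) :
    code3 s = code3 u := by
  unfold code3
  exact foldl_congr _ _ _ (fun j hj => by rw [h j (List.mem_range.1 hj)]) 0

theorem code_zero_of {s : ℕ} (h : ∀ j < 8, (Columns.car chevE8 j s) % 3 = 0) : code3 s = 0 := by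
  unfold code3
  rw [foldl_congr _ (fun _ => 0) _ (fun j hj => by rw [h j (List.mem_range.1 hj)]; rfl) 0]
  decide

theorem code_getElem {s : ℕ} (hs : s < 240) : codes[s]? = some (code3 s) := by
  rw [← codes_eq, List.getElem?_map, List.getElem?_range hs]
  rfl

theorem code_inj {s u : ℕ} (hs : s < 240) (hu : u < 240) (h : code3 s = code3 u) : s = u := by
  have h1 := code_getElem hs
  have h2 := code_getElem hu
  rw [← h] at h2
  have hs' : s < codes.length := by
    by_contra hc
    rw [List.getElem?_eq_none (not_lt.1 hc)] at h1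
    simp at h1
  exact (List.nodup_iff_getElem?_ne_getElem?.1 codes_nodup) |> fun H => by
    by_contra hne
    rcases lt_or_gt_of_ne hne with hlt | hlt
    · have hu' : u < codes.length := by
        by_contra hc
        rw [List.getElem?_eq_none (not_lt.1 hc)] at h2
        simp at h2
      exact H s u hlt hu' (by rw [h1, h2])
    · exact H u s hlt hs' (by rw [h1, h2])

theorem code_ne {s : ℕ} (hs : s < 240) : code3 s ≠ 0 :=
  codes_pos _ (List.mem_of_getElem? (code_getElem hs))

theorem crt_inl (j : Fin chevE8.rank) (i : Fin chevE8.rank) : crt j (Sum.inl i) = 0 := rfl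
theorem crt_inr (j : Fin chevE8.rank) (s : Fin chevE8.nroots) : crt j (Sum.inr s) = Columns.car chevE8 j.val s.val := rfl

/-- **Separation**: distinct weights differ modulo 3 on some simple coroot. -/
theorem sep {i k : chevE8.Idx} (h : wt i ≠ wt k) : ∃ j : Fin chevE8.rank, ¬ (3 : ℤ) ∣ crt j i - crt j k := by
  by_contra hc
  push Not at hc
  have key : ∀ j < 8, ∀ hj : j < chevE8.rank, (3 : ℤ) ∣ crt ⟨j, hj⟩ i - crt ⟨j, hj⟩ k := fun j _ hj => hc ⟨j, hj⟩
  rcases i with i | s
  · rcases k with k | u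
    · exact h rfl
    · refine code_ne (s := u.val) u.2 (code_zero_of fun j hj => ?_)
      have h1 := key j hj hj
      rw [crt_inl, crt_inr, zero_sub, dvd_neg] at h1
      exact Int.emod_eq_zero_of_dvd h1
  · rcases k with k | u
    · refine code_ne (s := s.val) s.2 (code_zero_of fun j hj => ?_)
      have h1 := key j hj hj
      rw [crt_inl, crt_inr, sub_zero] at h1
      exact Int.emod_eq_zero_of_dvd h1
    · apply h
      have h2 : s.val = u.val := code_inj s.2 u.2 (code_eq_of fun j hj => by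
        have h1 := key j hj hj
        rw [crt_inr, crt_inr] at h1
        exact (Int.emod_eq_emod_iff_emod_sub_eq_zero).2 (Int.emod_eq_zero_of_dvd h1))
      rw [wt_inr, wt_inr, h2]

variable {K : Type} [Field K]

theorem sep_field [CharP K 3] {i k : chevE8.Idx} (h : wt i ≠ wt k) :
    ∃ j : Fin chevE8.rank, ((crt j i : ℤ) : K) ≠ ((crt j k : ℤ) : K) := by
  obtain ⟨j, hj⟩ := sep h
  refine ⟨j, fun e => hj ?_⟩
  rw [← sub_eq_zero, ← Int.cast_sub] at e
  have := (CharP.intCast_eq_zero_iff K 3 (crt j i - crt j k)).1 e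
  exact_mod_cast this

/-! ### unitriangular matrices for a functional -/

/-- unitriangular for a functional -/
def Uni (f : Q8 →+ ℤ) (M : Matrix chevE8.Idx chevE8.Idx K) : Prop :=
  (∀ i, M i i = 1) ∧ ∀ i j, i ≠ j → M i j ≠ 0 → 0 < f (wt i - wt j)

theorem Uni.one (f : Q8 →+ ℤ) : Uni f (1 : Matrix chevE8.Idx chevE8.Idx K) :=
  ⟨fun _ => Matrix.one_apply_eq _, fun _ _ hij h => absurd (Matrix.one_apply_ne hij) h⟩

theorem Uni.mul {f : Q8 →+ ℤ} {M N : Matrix chevE8.Idx chevE8.Idx K} (hM : Uni f M) (hN : Uni f N) : Uni f (M * N) := by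
  constructor
  · intro i
    rw [Matrix.mul_apply, Finset.sum_eq_single i]
    · rw [hM.1, hN.1, one_mul]
    · intro j _ hj
      by_contra h
      have h1 := left_ne_zero_of_mul h
      have h2 := right_ne_zero_of_mul h
      have h3 := hM.2 i j hj.symm h1
      have h4 := hN.2 j i hj h2
      have h5 : f (wt i - wt j) + f (wt j - wt i) = 0 := by rw [← map_add]; simp
      omega
    · exact fun h => absurd (Finset.mem_univ i) h
  · intro i j hij h
    rw [Matrix.mul_apply] at h
    obtain ⟨k, -, hk⟩ := Finset.exists_ne_zero_of_sum_ne_zero h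
    have h1 := left_ne_zero_of_mul hk
    have h2 := right_ne_zero_of_mul hk
    by_cases hik : i = k
    · subst hik
      exact hN.2 _ _ hij h2
    · by_cases hkj : k = j
      · subst hkj
        exact hM.2 _ _ hij h1
      · have h3 := hM.2 i k hik h1
        have h4 := hN.2 k j hkj h2
        have h5 : f (wt i - wt k) + f (wt k - wt j) = f (wt i - wt j) := by rw [← map_add]; congr 1; abel
        omega

theorem uni_xMat {f : Q8 →+ ℤ} (r : Fin chevE8.nroots) (hf : 0 < f (vec chevE8 8 r)) (t : K) :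
    Uni f (xMatR chevE8 K r t) := by
  constructor
  · intro i
    obtain ⟨c, m, -, h2, h3, h4⟩ := entry r i i
    rw [h4 K t, h3 rfl, h2 (h3 rfl), if_pos rfl, pow_zero, mul_one, Int.cast_one]
  · intro i j hij h
    obtain ⟨c, m, h1, h2, h3, h4⟩ := entry r i j
    rw [h4 K t] at h
    have hc : c ≠ 0 := by
      rintro rfl
      rw [Int.cast_zero, zero_mul] at h
      exact h rfl
    have hm : m ≠ 0 := by
      intro hm
      have h5 := h2 hm
      rw [if_neg hij] at h5
      exact hc h5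
    rw [h1 hc, add_sub_cancel_left, map_zsmul, smul_eq_mul]
    have : (0 : ℤ) < m := by omega
    exact mul_pos this hf

theorem mem_XX_vec (r : Fin chevE8.nroots) {x : GK} (hx : x ∈ XX chevE8 8 K8 (vec chevE8 8 r)) :
    ∃ t : K8, mx x = xMatR chevE8 K8 r t := by
  have h1 : (x : GL chevE8.Idx K8) ∈ XV chevE8 8 K8 (vec chevE8 8 r) := hx
  rw [XV_vec e8T K8 r.2] at h1
  obtain ⟨t, ht⟩ := (mem_rootSubgroup_iff e8T.inList r _).1 h1
  refine ⟨t, ?_⟩
  show ((x : GL chevE8.Idx K8) : Matrix chevE8.Idx chevE8.Idx K8) = _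
  rw [ht, coe_xG, x_eq_xR]
  unfold xR
  rw [dif_pos r.2]

theorem uni_Sup {f : Q8 →+ ℤ} {g : GK} (hg : g ∈ RGD.Sup (XX chevE8 8 K8) {a | Rt a ∧ 0 < f a}) : Uni f (mx g) := by
  refine Subgroup.iSup_induction (C := fun g => Uni f (mx g)) _ hg ?_ (Uni.one f) ?_
  · rintro ⟨a, ha, hfa⟩ x hx
    obtain ⟨r, rfl⟩ := exists_idx ha
    obtain ⟨t, ht⟩ := mem_XX_vec r hx
    rw [ht]
    exact uni_xMat r hfa t
  · intro x y hx hy
    show Uni f (mx (x * y))
    exact hx.mul hy

/-! ### brackets -/

end Cfsg.Agent.H288.E8L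
end

-- part: H288/E8L/Disp
section
/-!
# Displacements: a group of unitriangular automorphisms, indecomposable displacements are roots
-/

set_option autoImplicit false
set_option linter.unusedSectionVars false
set_option maxRecDepth 100000

namespace Cfsg.Agent.H288.E8L

open CoxeterSystem Cfsg Cfsg.Lie Cfsg.Lie.ChevalleyDatum
open Cfsg.Agent.ChevalleyStructure Cfsg.Agent.ChevalleyStructure.Elts Cfsg.Agent.ChevalleyStructure.CoxeterGeom
  Cfsg.Agent.ChevalleyStructure.CoxeterGeomTypes Cfsg.Agent.ChevalleyStructure.RootVec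
  Cfsg.Agent.ChevalleyStructure.RootVecTab
open Cfsg.Agent.ChevalleyStructure.Ring Cfsg.Agent.ChevalleyStructure.LieAut Cfsg.Agent.ChevalleyStructure.LieAbs
  Cfsg.Agent.ChevalleyStructure.JacMain
open Cfsg.Agent.Tits.Roots Cfsg.Agent.Tits.Core Cfsg.Agent.Nodes Cfsg.Agent.Nodes.Reps Cfsg.Agent.Nodes.BNOf
  Cfsg.Agent.Nodes.RGDChev
open Cfsg.Agent.GpExc.Field Cfsg.Agent.BpExc.TowChev Cfsg.Agent.H129.TorusChar
open Cfsg.Agent.KFacts.RgdChevCoord
open Cfsg.Agent.H942.E8Tab Cfsg.Agent.H942.E8Alc Cfsg.Agent.H942.CB Cfsg.Agent.H944.Tab Cfsg.Agent.H944.Kac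
open Matrix

/-! ### components -/

section cp

variable {K : Type} [Field K]

/-- the component of displacement `μ` -/
def cp (μ : Q8) (M : Matrix chevE8.Idx chevE8.Idx K) : Matrix chevE8.Idx chevE8.Idx K :=
  Matrix.of fun i j => if wt i = wt j + μ then M i j else 0

theorem cp_apply (μ : Q8) (M : Matrix chevE8.Idx chevE8.Idx K) (i j : chevE8.Idx) :
    cp μ M i j = if wt i = wt j + μ then M i j else 0 := rfl

theorem cp_of {μ : Q8} (M : Matrix chevE8.Idx chevE8.Idx K) {i j : chevE8.Idx} (h : wt i = wt j + μ) :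
    cp μ M i j = M i j := if_pos h

theorem cp_mul (S : Finset Q8) {M N : Matrix chevE8.Idx chevE8.Idx K} {μ : Q8}
    (hS : ∀ i j l, M i j ≠ 0 → N j l ≠ 0 → wt i = wt l + μ → wt i - wt j ∈ S) :
    cp μ (M * N) = ∑ ν ∈ S, cp ν M * cp (μ - ν) N := by
  ext i l
  rw [Matrix.sum_apply, cp_apply]
  simp only [Matrix.mul_apply]
  rw [Finset.sum_comm]
  by_cases hil : wt i = wt l + μ
  · rw [if_pos hil]
    refine Finset.sum_congr rfl fun j _ => ?_
    by_cases h0 : M i j * N j l = 0
    · rw [h0]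
      symm
      refine Finset.sum_eq_zero fun ν _ => ?_
      rw [cp_apply, cp_apply]
      split_ifs
      · exact h0
      · rw [mul_zero]
      · rw [zero_mul]
      · rw [mul_zero]
    · have hm := hS i j l (left_ne_zero_of_mul h0) (right_ne_zero_of_mul h0) hil
      rw [Finset.sum_eq_single (wt i - wt j)]
      · rw [cp_of M (by abel), cp_of N (by rw [hil]; abel)]
      · intro ν _ hν
        rw [cp_apply, if_neg (fun e => hν (by rw [e]; abel)), zero_mul]
      · exact fun h => absurd hm h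
  · rw [if_neg hil]
    symm
    refine Finset.sum_eq_zero fun j _ => Finset.sum_eq_zero fun ν _ => ?_
    rw [cp_apply, cp_apply]
    by_cases h1 : wt i = wt j + ν
    · by_cases h2 : wt j = wt l + (μ - ν)
      · exfalso
        apply hil
        rw [h1, h2]; abel
      · rw [if_neg h2, mul_zero]
    · rw [if_neg h1, zero_mul]

theorem cp_eq_zero_iff {μ : Q8} {M : Matrix chevE8.Idx chevE8.Idx K} :
    cp μ M = 0 ↔ ∀ i j, wt i = wt j + μ → M i j = 0 := by
  constructor
  · intro h i j hij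
    rw [← cp_of M hij, h, Matrix.zero_apply]
  · intro h
    ext i j
    rw [cp_apply, Matrix.zero_apply]
    split_ifs with h1
    · exact h i j h1
    · rfl

theorem cp_add (μ : Q8) (M N : Matrix chevE8.Idx chevE8.Idx K) : cp μ (M + N) = cp μ M + cp μ N := by
  ext i j
  rw [Matrix.add_apply, cp_apply, cp_apply, cp_apply, Matrix.add_apply]
  split_ifs <;> simp

end cp

/-- the Cartan integer is additive in the weight -/
theorem crt_eq (j : Fin chevE8.rank) (i : chevE8.Idx) :
    crt j i = pairing (cartanOf chevE8 8) (j : Fin 8) (wt i) := by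
  rcases i with i | s
  · rw [crt_inl, wt_inl]
    unfold pairing
    exact (Finset.sum_eq_zero fun k _ => by rw [Pi.zero_apply, mul_zero]).symm
  · rw [crt_inr, wt_inr]
    exact (pairing_vec e8T (j : Fin 8) s.2).symm

theorem crt_add (j : Fin chevE8.rank) {i k m : chevE8.Idx} (h : wt i = wt k + wt m) :
    crt j i = crt j k + crt j m := by
  rw [crt_eq, crt_eq, crt_eq, h]
  exact pairing_add _ _ _ _

/-! ### a unitriangular group of automorphisms -/

theorem inE8 : chevE8 ∈ [chevG2, chevB2, chevD4, chevF4, chevE6, chevE7, chevE8] := by simp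

theorem aut (g : GK) (v : chevE8.Idx → K8) :
    mx g * adv (adR chevE8 K8) v = adv (adR chevE8 K8) (mx g *ᵥ v) * mx g :=
  JacAll.group_mul_adv chevE8 inE8 K8 (g : GL chevE8.Idx K8) g.2 v

section U

variable (W : Subgroup GK)

/-- the nonzero displacements -/
def PP : Set Q8 := {μ | μ ≠ 0 ∧ ∃ g ∈ W, ∃ i j, wt i = wt j + μ ∧ mx g i j ≠ 0}

/-- the monoid of displacements -/
def CL : AddSubmonoid Q8 := AddSubmonoid.closure (PP W)

/-- the indecomposable displacements -/
def Ind : Set Q8 := {a | a ∈ PP W ∧ ∀ x ∈ CL W, ∀ y ∈ CL W, x ≠ 0 → y ≠ 0 → a ≠ x + y}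

variable {W} {f : Q8 →+ ℤ} (hW : ∀ g ∈ W, Uni f (mx g))

include hW

theorem f_pos {μ : Q8} (h : μ ∈ PP W) : 0 < f μ := by
  obtain ⟨h0, g, hg, i, j, hij, hne⟩ := h
  have h1 : i ≠ j := by
    rintro rfl
    apply h0
    exact (add_eq_left.1 hij.symm)
  have h2 := (hW g hg).2 i j h1 hne
  rwa [hij, add_sub_cancel_left] at h2

theorem f_cl {μ : Q8} (h : μ ∈ CL W) : μ = 0 ∨ 0 < f μ := by
  unfold CL at h
  induction h using AddSubmonoid.closure_induction with
  | mem x hx => exact Or.inr (f_pos hW hx)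
  | zero => exact Or.inl rfl
  | add x y _ _ hx hy =>
    rcases hx with rfl | hx
    · rw [zero_add]; exact hy
    · rcases hy with rfl | hy
      · rw [add_zero]; exact Or.inr hx
      · right; rw [map_add]; omega

theorem f_cl' {μ : Q8} (h : μ ∈ CL W) (h0 : μ ≠ 0) : 0 < f μ := (f_cl hW h).resolve_left h0

omit hW in
theorem PP_le {μ : Q8} (h : μ ∈ PP W) : μ ∈ CL W := AddSubmonoid.subset_closure h

/-- every displacement is a sum of indecomposable ones -/
theorem cl_le : CL W ≤ AddSubmonoid.closure (Ind W) := by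
  have key : ∀ n : ℕ, ∀ x ∈ CL W, f x ≤ n → x ∈ AddSubmonoid.closure (Ind W) := by
    intro n
    induction n with
    | zero =>
      intro x hx hn
      rcases f_cl hW hx with rfl | h
      · exact zero_mem _
      · exact absurd h (by push_cast at hn; omega)
    | succ n ih =>
      intro x hx hn
      -- it is enough to treat displacements
      have hp : ∀ μ ∈ PP W, f μ ≤ (n : ℤ) + 1 → μ ∈ AddSubmonoid.closure (Ind W) := by
        intro μ hμ hle
        by_cases hI : μ ∈ Ind W
        · exact AddSubmonoid.subset_closure hI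
        · have h1 : ¬ ∀ x ∈ CL W, ∀ y ∈ CL W, x ≠ 0 → y ≠ 0 → μ ≠ x + y := fun h => hI ⟨hμ, h⟩
          push Not at h1
          obtain ⟨x, hx, y, hy, hx0, hy0, e⟩ := h1
          have h2 := f_cl' hW hx hx0
          have h3 := f_cl' hW hy hy0
          rw [e, map_add] at hle
          rw [e]
          exact add_mem (ih x hx (by omega)) (ih y hy (by omega))
      push_cast at hn
      unfold CL at hx
      induction hx using AddSubmonoid.closure_induction with
      | mem x hx => exact hp x hx hn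
      | zero => exact zero_mem _
      | add x y hx' hy' hx hy =>
        have h1 : 0 ≤ f x := by rcases f_cl hW hx' with rfl | h; · simp
                                · omega
        have h2 : 0 ≤ f y := by rcases f_cl hW hy' with rfl | h; · simp
                                · omega
        rw [map_add] at hn
        exact add_mem (hx (by omega)) (hy (by omega))
  intro x hx
  refine key (f x).toNat x hx ?_
  have : 0 ≤ f x := by rcases f_cl hW hx with rfl | h; · simp
                       · omega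
  omega

omit hW in
theorem disp_of_entry {g : GK} (hg : g ∈ W) {i j : chevE8.Idx} (h : mx g i j ≠ 0) (hij : wt i ≠ wt j) :
    wt i - wt j ∈ PP W :=
  ⟨sub_ne_zero.2 hij, g, hg, i, j, by abel, h⟩

theorem diag_entry {g : GK} (hg : g ∈ W) {i j : chevE8.Idx} (hij : wt i = wt j) :
    mx g i j = (1 : Matrix chevE8.Idx chevE8.Idx K8) i j := by
  by_cases h : i = j
  · rw [h, (hW g hg).1, Matrix.one_apply_eq]
  · rw [Matrix.one_apply_ne h]
    by_contra hne
    have := (hW g hg).2 i j h hne
    rw [hij, sub_self, map_zero] at this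
    exact lt_irrefl _ this

theorem cp_zero {g : GK} (hg : g ∈ W) : cp 0 (mx g) = 1 := by
  ext i j
  rw [cp_apply, add_zero]
  split_ifs with h
  · exact diag_entry hW hg h
  · exact (Matrix.one_apply_ne (fun e => h (by rw [e]))).symm

/-- the support condition for indecomposable displacements -/
theorem supp_ind {a : Q8} (ha : a ∈ Ind W) {M N : Matrix chevE8.Idx chevE8.Idx K8}
    (hM : ∀ i j, M i j ≠ 0 → wt i = wt j ∨ wt i - wt j ∈ PP W)
    (hN : ∀ i j, N i j ≠ 0 → wt i = wt j ∨ wt i - wt j ∈ PP W) :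
    cp a (M * N) = cp 0 M * cp a N + cp a M * cp 0 N := by
  have h0 : (0 : Q8) ≠ a := fun e => ha.1.1 e.symm
  rw [cp_mul {0, a} (M := M) (N := N) (μ := a), Finset.sum_pair h0, sub_zero, sub_self]
  intro i j l h1 h2 h3
  rw [Finset.mem_insert, Finset.mem_singleton]
  rcases hM i j h1 with h4 | h4
  · left; rw [h4, sub_self]
  · right
    rcases hN j l h2 with h5 | h5
    · rw [h5, h3, add_sub_cancel_left]
    · exfalso
      exact ha.2 _ (PP_le h4) _ (PP_le h5) h4.1 h5.1 (by rw [h3]; abel)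

omit hW in
theorem supp_mem {g : GK} (hg : g ∈ W) (i j : chevE8.Idx) (h : mx g i j ≠ 0) : wt i = wt j ∨ wt i - wt j ∈ PP W := by
  by_cases e : wt i = wt j
  · exact Or.inl e
  · exact Or.inr (disp_of_entry hg h e)

theorem cp_ind_mul {a : Q8} (ha : a ∈ Ind W) {g g' : GK} (hg : g ∈ W) (hg' : g' ∈ W) :
    cp a (mx (g * g')) = cp a (mx g) + cp a (mx g') := by
  have e : mx (g * g') = mx g * mx g' := rfl
  rw [e, supp_ind hW ha (supp_mem hg) (supp_mem hg'), cp_zero hW hg, cp_zero hW hg', one_mul, mul_one, add_comm]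

/-- the equation for the component of an indecomposable displacement -/
theorem ind_eq {a : Q8} (ha : a ∈ Ind W) {g : GK} (hg : g ∈ W) (j : Fin chevE8.rank) (i k : chevE8.Idx)
    (hik : wt i = wt k + a) :
    mx g i k * ((crt j k : ℤ) : K8) = ((crt j i : ℤ) : K8) * mx g i k +
      ∑ s : Fin chevE8.nroots, if vec chevE8 8 s = a then mx g (Sum.inr s) (Sum.inl j) * adR chevE8 K8 (Sum.inr s) i k
        else 0 := by
  have h1 := aut g (Pi.single (Sum.inl j) 1)
  rw [adv_single_one] at h1
  set N := adv (adR chevE8 K8) (mx g *ᵥ Pi.single (Sum.inl j) 1) with hNdef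
  have hcol : ∀ m, (mx g *ᵥ Pi.single (Sum.inl j) (1 : K8)) m = mx g m (Sum.inl j) := by
    intro m
    rw [Matrix.mulVec_single_one]
    rfl
  have hN : ∀ p q, N p q = ∑ m, mx g m (Sum.inl j) * adR chevE8 K8 m p q := by
    intro p q
    rw [hNdef]
    unfold adv
    rw [Matrix.sum_apply]
    exact Finset.sum_congr rfl fun m _ => by rw [Matrix.smul_apply, hcol, smul_eq_mul]
  have hNs : ∀ p q, N p q ≠ 0 → wt p = wt q ∨ wt p - wt q ∈ PP W := by
    intro p q h
    rw [hN] at h
    obtain ⟨m, -, hm⟩ := Finset.exists_ne_zero_of_sum_ne_zero h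
    have h2 := adR_wt m p q (right_ne_zero_of_mul hm)
    rcases supp_mem hg m (Sum.inl j) (left_ne_zero_of_mul hm) with h3 | h3
    · left; rw [h2, h3, wt_inl, zero_add]
    · right
      rw [wt_inl, sub_zero] at h3
      rwa [h2, add_sub_cancel_right]
  have hA : ∀ p q, adR chevE8 K8 (Sum.inl j) p q ≠ 0 → wt p = wt q ∨ wt p - wt q ∈ PP W := by
    intro p q h
    left
    rw [adR_wt _ p q h, wt_inl, zero_add]
  have h2 := congrArg (cp a) h1
  rw [supp_ind hW ha (supp_mem hg) hA, supp_ind hW ha hNs (supp_mem hg)] at h2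
  have h3 : cp a (adR chevE8 K8 (Sum.inl j)) = 0 := by
    rw [cp_eq_zero_iff]
    intro p q hpq
    by_contra h
    have h4 := adR_wt _ p q h
    rw [wt_inl, zero_add] at h4
    rw [h4] at hpq
    exact ha.1.1 (add_eq_left.1 hpq.symm)
  have h4 : cp 0 (adR chevE8 K8 (Sum.inl j)) = adR chevE8 K8 (Sum.inl j) := by
    ext p q
    rw [cp_apply, add_zero]
    split_ifs with h
    · rfl
    · by_contra hne
      apply h
      rw [adR_wt _ p q (fun e => hne e.symm), wt_inl, zero_add]
  have h5 : cp 0 N = adR chevE8 K8 (Sum.inl j) := by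
    ext p q
    rw [cp_apply, add_zero]
    split_ifs with h
    · rw [hN, Finset.sum_eq_single (Sum.inl j)]
      · rw [(hW g hg).1, one_mul]
      · intro m _ hm
        by_contra hne
        have h6 := adR_wt m p q (right_ne_zero_of_mul hne)
        have h7 : wt m = 0 := by
          rw [h] at h6
          exact (add_eq_right.1 h6.symm)
        have h8 := diag_entry hW hg (i := m) (j := Sum.inl j) (by rw [h7, wt_inl])
        rw [Matrix.one_apply_ne hm] at h8
        exact (left_ne_zero_of_mul hne) h8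
      · exact fun h => absurd (Finset.mem_univ _) h
    · by_contra hne
      apply h
      rw [adR_wt _ p q (fun e => hne e.symm), wt_inl, zero_add]
  rw [h3, mul_zero, zero_add, h4, h5, cp_zero hW hg, mul_one] at h2
  have h6 := congrFun (congrFun h2 i) k
  rw [Matrix.add_apply, adR_inl, Matrix.mul_diagonal, Matrix.diagonal_mul, cp_of _ hik] at h6
  rw [h6]
  congr 1
  rw [cp_of _ hik, hN, Fintype.sum_sum_type]
  have h7 : ∑ m : Fin chevE8.rank, mx g (Sum.inl m) (Sum.inl j) * adR chevE8 K8 (Sum.inl m) i k = 0 := by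
    refine Finset.sum_eq_zero fun m _ => ?_
    by_contra hne
    have h8 := adR_wt (Sum.inl m) i k (right_ne_zero_of_mul hne)
    rw [wt_inl, zero_add] at h8
    rw [h8] at hik
    exact ha.1.1 (add_eq_left.1 hik.symm)
  rw [h7, zero_add]
  refine Finset.sum_congr rfl fun s _ => ?_
  split_ifs with h8
  · rfl
  · by_contra hne
    have h9 := adR_wt (Sum.inr s) i k (right_ne_zero_of_mul hne)
    rw [wt_inr, hik, add_comm] at h9
    exact h8 (add_right_cancel h9.symm)

end U

end Cfsg.Agent.H288.E8L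
end

-- part: H288/E8L/IndRoot
section
/-!
# Indecomposable displacements act as root vectors
-/

set_option autoImplicit false
set_option linter.unusedSectionVars false
set_option maxRecDepth 100000

namespace Cfsg.Agent.H288.E8L

open CoxeterSystem Cfsg Cfsg.Lie Cfsg.Lie.ChevalleyDatum
open Cfsg.Agent.ChevalleyStructure Cfsg.Agent.ChevalleyStructure.Elts Cfsg.Agent.ChevalleyStructure.CoxeterGeom
  Cfsg.Agent.ChevalleyStructure.CoxeterGeomTypes Cfsg.Agent.ChevalleyStructure.RootVec
  Cfsg.Agent.ChevalleyStructure.RootVecTab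
open Cfsg.Agent.ChevalleyStructure.Ring Cfsg.Agent.ChevalleyStructure.LieAut Cfsg.Agent.ChevalleyStructure.LieAbs
  Cfsg.Agent.ChevalleyStructure.JacMain
open Cfsg.Agent.Tits.Roots Cfsg.Agent.Tits.Core Cfsg.Agent.Nodes Cfsg.Agent.Nodes.Reps Cfsg.Agent.Nodes.BNOf
  Cfsg.Agent.Nodes.RGDChev
open Cfsg.Agent.GpExc.Field Cfsg.Agent.BpExc.TowChev Cfsg.Agent.H129.TorusChar
open Cfsg.Agent.KFacts.RgdChevCoord
open Cfsg.Agent.H942.E8Tab Cfsg.Agent.H942.E8Alc Cfsg.Agent.H942.CB Cfsg.Agent.H944.Tab Cfsg.Agent.H944.Kac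
open Matrix

instance charK8 : CharP K8 3 := charP_of_injective_algebraMap (algebraMap (ZMod 3) K8).injective 3

theorem exists_jj (s : Fin chevE8.nroots) : ∃ j : Fin chevE8.rank, ((crt j (Sum.inr s) : ℤ) : K8) ≠ 0 := by
  obtain ⟨j, hj⟩ := sep_field (K := K8) (i := Sum.inr s) (k := Sum.inl ⟨0, by decide⟩)
    (by rw [wt_inr, wt_inl]; exact vec_ne_zero s)
  refine ⟨j, ?_⟩
  rwa [crt_inl, Int.cast_zero] at hj

/-- a coroot on which the root does not vanish -/
noncomputable def jj (s : Fin chevE8.nroots) : Fin chevE8.rank := Classical.choose (exists_jj s)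

theorem jj_spec (s : Fin chevE8.nroots) : ((crt (jj s) (Sum.inr s) : ℤ) : K8) ≠ 0 := Classical.choose_spec (exists_jj s)

/-- the coefficient of a matrix at a root -/
noncomputable def cf (s : Fin chevE8.nroots) (M : Matrix chevE8.Idx chevE8.Idx K8) : K8 :=
  -(M (Sum.inr s) (Sum.inl (jj s))) / ((crt (jj s) (Sum.inr s) : ℤ) : K8)

section U

variable {W : Subgroup GK} {f : Q8 →+ ℤ} (hW : ∀ g ∈ W, Uni f (mx g))

include hW

/-- indecomposable displacements are roots -/
theorem ind_root {a : Q8} (ha : a ∈ Ind W) : ∃ s : Fin chevE8.nroots, vec chevE8 8 s = a := by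
  by_contra hcon
  push Not at hcon
  obtain ⟨h0, g, hg, i, k, hik, hne⟩ := ha.1
  have h1 : wt i ≠ wt k := by
    intro e
    rw [e] at hik
    exact h0 (add_eq_left.1 hik.symm)
  obtain ⟨j, hj⟩ := sep_field (K := K8) h1
  have h2 := ind_eq hW ha hg j i k hik
  rw [Finset.sum_eq_zero (fun s _ => if_neg (hcon s)), add_zero, mul_comm] at h2
  exact hj (mul_right_cancel₀ hne h2).symm

/-- the component at an indecomposable displacement is a multiple of the adjoint of the root vector -/
theorem cp_eq {s : Fin chevE8.nroots} (ha : vec chevE8 8 s ∈ Ind W) {g : GK} (hg : g ∈ W) :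
    cp (vec chevE8 8 s) (mx g) = cf s (mx g) • adR chevE8 K8 (Sum.inr s) := by
  ext i k
  rw [cp_apply, Matrix.smul_apply, smul_eq_mul]
  split_ifs with hik
  · have h2 := ind_eq hW ha hg (jj s) i k hik
    rw [Finset.sum_eq_single s, if_pos rfl] at h2
    · have h3 : crt (jj s) i = crt (jj s) k + crt (jj s) (Sum.inr s) := crt_add _ hik
      have h4 := jj_spec s
      rw [h3, Int.cast_add] at h2
      unfold cf
      rw [div_mul_eq_mul_div, eq_div_iff h4]
      linear_combination -h2
    · intro b _ hb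
      rw [if_neg]
      intro e
      exact hb (Fin.ext (vec_inj e8T b.2 s.2 e))
    · exact fun h => absurd (Finset.mem_univ _) h
  · by_contra hne
    apply hik
    have := adR_wt (Sum.inr s) i k (right_ne_zero_of_mul (fun e => hne e.symm))
    rw [this, wt_inr, add_comm]

theorem cf_mul {s : Fin chevE8.nroots} (ha : vec chevE8 8 s ∈ Ind W) {g g' : GK} (hg : g ∈ W) (hg' : g' ∈ W) :
    cf s (mx (g * g')) = cf s (mx g) + cf s (mx g') := by
  have h1 := congrFun (congrFun (cp_ind_mul hW ha hg hg') (Sum.inr s)) (Sum.inl (jj s))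
  have h2 : wt (Sum.inr s) = wt (Sum.inl (jj s)) + vec chevE8 8 s := by rw [wt_inr, wt_inl, zero_add]
  rw [Matrix.add_apply, cp_of _ h2, cp_of _ h2, cp_of _ h2] at h1
  unfold cf
  rw [h1]
  ring

theorem exists_cf_ne {s : Fin chevE8.nroots} (ha : vec chevE8 8 s ∈ Ind W) : ∃ g ∈ W, cf s (mx g) ≠ 0 := by
  obtain ⟨h0, g, hg, i, k, hik, hne⟩ := ha.1
  refine ⟨g, hg, fun h => hne ?_⟩
  have h1 := congrFun (congrFun (cp_eq hW ha hg) i) k
  rw [cp_of _ hik, h, zero_smul, Matrix.zero_apply] at h1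
  exact h1

end U

/-! ### conjugation by torus elements -/

theorem mx_torus {t : GK} (ht : t ∈ TT chevE8 K8) : mx t = Matrix.diagonal (fun i => cX e8T t (wt i)) := by
  have h := TT_diag' e8T ht
  show ((t : GL chevE8.Idx K8) : Matrix chevE8.Idx chevE8.Idx K8) = _
  rw [h]
  congr 1
  funext i
  rcases i with i | s
  · rw [Sum.elim_inl, wt_inl]
    exact (isMC_cX e8T ht).zero.symm
  · rw [Sum.elim_inr, wt_inr]

theorem mx_mul (g g' : GK) : mx (g * g') = mx g * mx g' := rfl

theorem conj_entry {t : GK} (ht : t ∈ TT chevE8 K8) (g : GK) (i k : chevE8.Idx) :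
    mx (t * g * t⁻¹) i k * cX e8T t (wt k) = cX e8T t (wt i) * mx g i k := by
  have h1 : mx (t * g * t⁻¹) * mx t = mx t * mx g := by
    rw [← mx_mul, ← mx_mul, inv_mul_cancel_right]
  have h2 := congrFun (congrFun h1 i) k
  rwa [mx_torus ht, Matrix.mul_diagonal, Matrix.diagonal_mul] at h2

theorem cf_conj {t : GK} (ht : t ∈ TT chevE8 K8) (g : GK) (s : Fin chevE8.nroots) :
    cf s (mx (t * g * t⁻¹)) = cX e8T t (vec chevE8 8 s) * cf s (mx g) := by
  have h := conj_entry ht g (Sum.inr s) (Sum.inl (jj s))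
  rw [wt_inl, wt_inr, (isMC_cX e8T ht).zero, mul_one] at h
  unfold cf
  rw [h]
  ring

end Cfsg.Agent.H288.E8L
end

-- part: H288/E8L/Brk
section
/-!
# Brackets of root vectors
-/

set_option autoImplicit false
set_option linter.unusedSectionVars false
set_option maxRecDepth 100000

namespace Cfsg.Agent.H288.E8L

open CoxeterSystem Cfsg Cfsg.Lie Cfsg.Lie.ChevalleyDatum
open Cfsg.Agent.ChevalleyStructure Cfsg.Agent.ChevalleyStructure.Elts Cfsg.Agent.ChevalleyStructure.CoxeterGeom
  Cfsg.Agent.ChevalleyStructure.CoxeterGeomTypes Cfsg.Agent.ChevalleyStructure.RootVec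
  Cfsg.Agent.ChevalleyStructure.RootVecTab
open Cfsg.Agent.ChevalleyStructure.Ring Cfsg.Agent.ChevalleyStructure.LieAut Cfsg.Agent.ChevalleyStructure.LieAbs
  Cfsg.Agent.ChevalleyStructure.JacMain
open Cfsg.Agent.Tits.Roots Cfsg.Agent.Tits.Core Cfsg.Agent.Nodes Cfsg.Agent.Nodes.Reps Cfsg.Agent.Nodes.BNOf
  Cfsg.Agent.Nodes.RGDChev
open Cfsg.Agent.GpExc.Field Cfsg.Agent.BpExc.TowChev Cfsg.Agent.H129.TorusChar
open Cfsg.Agent.KFacts.RgdChevCoord
open Cfsg.Agent.H942.E8Tab Cfsg.Agent.H942.E8Alc Cfsg.Agent.H942.CB Cfsg.Agent.H944.Tab Cfsg.Agent.H944.Kac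
open Matrix

/-- the structure constant read off the table -/
def Ncf (r s u : ℕ) : ℤ := ((chevE8.chainCoeff r s u).map fun q => q.2).sum

open Polynomial in
theorem adA_chain {r s u : Fin chevE8.nroots} (hsr : s ≠ r) (hsn : s.val ≠ chevE8.negIdx.getD r.val 0)
    (hv : vec chevE8 8 u = vec chevE8 8 r + vec chevE8 8 s) :
    adA chevE8 (Sum.inr r) (Sum.inr u) (Sum.inr s) = Ncf r.val s.val u.val := by
  have hC : Checked chevE8 := e8T.checked
  have hus : u ≠ s := by
    rintro rfl
    exact vec_ne_zero r (add_eq_right.1 hv.symm)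
  have h1 : ∀ km ∈ chevE8.chainCoeff r.val s.val u.val, km.1 = 1 := by
    intro km hkm
    obtain ⟨_, h2⟩ := TorusConj.chainCoeff_wt hC hkm
    have h3 : vec chevE8 8 u = vec chevE8 8 s + (km.1 : ℤ) • vec chevE8 8 r := by
      funext j
      rw [Pi.add_apply, Pi.smul_apply, smul_eq_mul]
      exact h2 j
    rw [hv, add_comm (vec chevE8 8 s)] at h3
    have h4 := add_right_cancel h3
    have h5 : ((km.1 : ℤ) - 1) • vec chevE8 8 r = 0 := by
      rw [sub_smul, one_smul, ← h4, sub_self]
    rcases smul_eq_zero.1 h5 with h6 | h6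
    · omega
    · exact absurd h6 (vec_ne_zero r)
  have e1 : xR chevE8 ℤ[X] r.val X (Sum.inr u) (Sum.inr s) = (if u = s then 1 else 0) +
      ((chevE8.chainCoeff r.val s.val u.val).map fun km => ((km.2 : ℤ) : ℤ[X]) * X ^ km.1).sum := by
    unfold xR
    rw [dif_pos r.2]
    show (if s = r then (if u = r then (1 : ℤ[X]) else 0) else
      if s.val = chevE8.negIdx.getD r.val 0 then _ else _) = _
    rw [if_neg hsr, if_neg hsn]
  rw [adA_inr, coefE_apply, e1, if_neg hus, zero_add]
  have h3 : ((chevE8.chainCoeff r.val s.val u.val).map fun q => ((q.2 : ℤ) : ℤ[X]) * X ^ q.1) =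
      ((chevE8.chainCoeff r.val s.val u.val).map fun q => ((q.2 : ℤ) : ℤ[X]) * X) :=
    List.map_congr_left fun q hq => by rw [h1 q hq, pow_one]
  rw [h3, List.sum_map_mul_right]
  have h4 := map_list_sum (Int.castRingHom ℤ[X])
    ((chevE8.chainCoeff r.val s.val u.val).map fun q : ℕ × ℤ => q.2)
  rw [List.map_map] at h4
  have h5 : (List.map (fun q : ℕ × ℤ => ((q.2 : ℤ) : ℤ[X])) (chevE8.chainCoeff r.val s.val u.val)).sum =
      ((Ncf r.val s.val u.val : ℤ) : ℤ[X]) := h4.symm
  rw [h5, coeff_mul_X, ← C_eq_intCast, coeff_C_zero]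
  exact Int.cast_id

open Polynomial in
theorem adA_col (s : Fin chevE8.nroots) (j : Fin chevE8.rank) :
    adA chevE8 (Sum.inr s) (Sum.inr s) (Sum.inl j) = -crt j (Sum.inr s) := by
  rw [adA_inr, coefE_apply]
  have e1 : xR chevE8 ℤ[X] s.val X (Sum.inr s) (Sum.inl j) =
      - (((chevE8.cartanSR.getD j.val #[]).getD s.val 0 : ℤ) : ℤ[X]) * X := by
    unfold xR
    rw [dif_pos s.2]
    show (if s = s then - (((chevE8.cartanSR.getD j.val #[]).getD s.val 0 : ℤ) : ℤ[X]) * X else 0) = _
    rw [if_pos rfl]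
  rw [e1, coeff_mul_X, ← Int.cast_neg, ← C_eq_intCast, coeff_C_zero]
  rfl

theorem adR_ne_zero (s : Fin chevE8.nroots) : adR chevE8 K8 (Sum.inr s) ≠ 0 := by
  intro h
  have h1 := congrFun (congrFun h (Sum.inr s)) (Sum.inl (jj s))
  rw [adR_def, Matrix.map_apply, adA_col, Matrix.zero_apply, map_neg, neg_eq_zero] at h1
  exact jj_spec s h1

/-- the bracket of two root vectors -/
theorem brk {r s u : Fin chevE8.nroots} (hsr : s ≠ r) (hsn : s.val ≠ chevE8.negIdx.getD r.val 0)
    (hv : vec chevE8 8 u = vec chevE8 8 r + vec chevE8 8 s) :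
    adR chevE8 K8 (Sum.inr r) * adR chevE8 K8 (Sum.inr s) - adR chevE8 K8 (Sum.inr s) * adR chevE8 K8 (Sum.inr r) =
      ((Ncf r.val s.val u.val : ℤ) : K8) • adR chevE8 K8 (Sum.inr u) := by
  have h1 := JacAll.jacR_all chevE8 inE8 K8 (Pi.single (Sum.inr r) 1) (Pi.single (Sum.inr s) 1)
  rw [adv_single_one, adv_single_one] at h1
  rw [← h1, Matrix.mulVec_single_one]
  have h2 : (adR chevE8 K8 (Sum.inr r)).col (Sum.inr s) =
      Pi.single (Sum.inr u) ((Ncf r.val s.val u.val : ℤ) : K8) := by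
    funext m
    rw [Matrix.col_apply]
    by_cases hm : m = Sum.inr u
    · rw [hm, Pi.single_eq_same, adR_def, Matrix.map_apply, adA_chain hsr hsn hv]
      rfl
    · rw [Pi.single_eq_of_ne hm]
      by_contra hne
      have h3 := adR_wt (Sum.inr r) m (Sum.inr s) hne
      rw [wt_inr, wt_inr, ← hv] at h3
      refine hm (wt_inj ?_ ?_)
      · rw [h3, wt_inr]
      · rw [h3]; exact vec_ne_zero u
  rw [h2, adv_single]

/-! ### relations from commutativity -/

section U

variable {W : Subgroup GK} {f : Q8 →+ ℤ} (hW : ∀ g ∈ W, Uni f (mx g)) (hc : ∀ g ∈ W, ∀ g' ∈ W, g * g' = g' * g)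

include hW

theorem cp_split {c0 : Q8} (hc0 : c0 ≠ 0) {D : Finset Q8} (h0D : 0 ∉ D) (hcD : c0 ∉ D)
    (hD : ∀ x ∈ CL W, ∀ y ∈ CL W, x ≠ 0 → y ≠ 0 → x + y = c0 → x ∈ D) {g g' : GK} (hg : g ∈ W) (hg' : g' ∈ W) :
    cp c0 (mx (g * g')) = cp c0 (mx g') + (cp c0 (mx g) + ∑ ν ∈ D, cp ν (mx g) * cp (c0 - ν) (mx g')) := by
  have h1 : (0 : Q8) ∉ insert c0 D := by
    rw [Finset.mem_insert, not_or]
    exact ⟨fun e => hc0 e.symm, h0D⟩
  rw [mx_mul, cp_mul (insert 0 (insert c0 D)) (M := mx g) (N := mx g') (μ := c0), Finset.sum_insert h1,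
    Finset.sum_insert hcD, sub_zero, sub_self, cp_zero hW hg, cp_zero hW hg', one_mul, mul_one]
  intro i j l h1 h2 h3
  rw [Finset.mem_insert, Finset.mem_insert]
  rcases supp_mem hg i j h1 with h4 | h4
  · left; rw [h4, sub_self]
  · right
    rcases supp_mem hg' j l h2 with h5 | h5
    · left; rw [h5, h3, add_sub_cancel_left]
    · right
      exact hD _ (PP_le h4) _ (PP_le h5) h4.1 h5.1 (by rw [h3]; abel)

include hc

theorem rel_gen {c0 : Q8} (hc0 : c0 ≠ 0) {D : Finset Q8} (h0D : 0 ∉ D) (hcD : c0 ∉ D)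
    (hD : ∀ x ∈ CL W, ∀ y ∈ CL W, x ≠ 0 → y ≠ 0 → x + y = c0 → x ∈ D) {g g' : GK} (hg : g ∈ W) (hg' : g' ∈ W) :
    ∑ ν ∈ D, cp ν (mx g) * cp (c0 - ν) (mx g') = ∑ ν ∈ D, cp ν (mx g') * cp (c0 - ν) (mx g) := by
  have h1 := cp_split hW hc0 h0D hcD hD hg hg'
  have h2 := cp_split hW hc0 h0D hcD hD hg' hg
  rw [hc g hg g' hg', h2] at h1
  have h3 : cp c0 (mx g) + (cp c0 (mx g') + ∑ ν ∈ D, cp ν (mx g') * cp (c0 - ν) (mx g)) =
      (cp c0 (mx g) + cp c0 (mx g')) + ∑ ν ∈ D, cp ν (mx g') * cp (c0 - ν) (mx g) := by abel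
  have h4 : cp c0 (mx g') + (cp c0 (mx g) + ∑ ν ∈ D, cp ν (mx g) * cp (c0 - ν) (mx g')) =
      (cp c0 (mx g) + cp c0 (mx g')) + ∑ ν ∈ D, cp ν (mx g) * cp (c0 - ν) (mx g') := by abel
  rw [h3, h4] at h1
  exact (add_left_cancel h1).symm

/-- a root with a single decomposition -/
theorem rel_one {r s u : Fin chevE8.nroots} (hr : vec chevE8 8 r ∈ Ind W) (hs : vec chevE8 8 s ∈ Ind W)
    (hsr : s ≠ r) (hsn : s.val ≠ chevE8.negIdx.getD r.val 0)
    (hv : vec chevE8 8 u = vec chevE8 8 r + vec chevE8 8 s) (hN : ¬ (3 : ℤ) ∣ Ncf r.val s.val u.val)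
    (hD : ∀ x ∈ CL W, ∀ y ∈ CL W, x ≠ 0 → y ≠ 0 → x + y = vec chevE8 8 u → x = vec chevE8 8 r ∨ x = vec chevE8 8 s)
    {g g' : GK} (hg : g ∈ W) (hg' : g' ∈ W) :
    cf r (mx g) * cf s (mx g') = cf r (mx g') * cf s (mx g) := by
  have hne : vec chevE8 8 r ≠ vec chevE8 8 s := fun e => hsr (Fin.ext (vec_inj e8T s.2 r.2 e.symm))
  have h1 := rel_gen hW hc (vec_ne_zero u) (D := {vec chevE8 8 r, vec chevE8 8 s}) (by
      rw [Finset.mem_insert, Finset.mem_singleton, not_or]
      exact ⟨(vec_ne_zero r).symm, (vec_ne_zero s).symm⟩) (by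
      rw [Finset.mem_insert, Finset.mem_singleton, not_or, hv]
      exact ⟨fun e => vec_ne_zero s (add_eq_left.1 e), fun e => vec_ne_zero r (add_eq_right.1 e)⟩)
    (fun x hx y hy hx0 hy0 e => by
      rw [Finset.mem_insert, Finset.mem_singleton]
      exact hD x hx y hy hx0 hy0 e) hg hg'
  rw [Finset.sum_pair hne, Finset.sum_pair hne, hv, add_sub_cancel_left, add_sub_cancel_right,
    cp_eq hW hr hg, cp_eq hW hr hg', cp_eq hW hs hg, cp_eq hW hs hg'] at h1
  set A := adR chevE8 K8 (Sum.inr r)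
  set B := adR chevE8 K8 (Sum.inr s)
  have h2 := brk hsr hsn hv
  have h3 : (cf r (mx g) * cf s (mx g') - cf r (mx g') * cf s (mx g)) • (A * B - B * A) = 0 := by
    simp only [Matrix.smul_mul, Matrix.mul_smul, smul_smul] at h1
    rw [smul_sub, sub_smul, sub_smul]
    rw [← sub_eq_zero] at h1
    rw [← h1, mul_comm (cf s (mx g')) (cf r (mx g)), mul_comm (cf s (mx g)) (cf r (mx g'))]
    abel
  rw [h2, smul_smul, smul_eq_zero] at h3
  have h4 := h3.resolve_right (adR_ne_zero u)
  rcases mul_eq_zero.1 h4 with h5 | h5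
  · exact sub_eq_zero.1 h5
  · exact absurd ((CharP.intCast_eq_zero_iff K8 3 _).1 h5) (by exact_mod_cast hN)

/-- a root with two decompositions -/
theorem rel_two {r s r' s' u : Fin chevE8.nroots} (hr : vec chevE8 8 r ∈ Ind W) (hs : vec chevE8 8 s ∈ Ind W)
    (hr' : vec chevE8 8 r' ∈ Ind W) (hs' : vec chevE8 8 s' ∈ Ind W)
    (hne : [r, s, r', s'].Nodup) (hsn : s.val ≠ chevE8.negIdx.getD r.val 0)
    (hsn' : s'.val ≠ chevE8.negIdx.getD r'.val 0)
    (hv : vec chevE8 8 u = vec chevE8 8 r + vec chevE8 8 s) (hv' : vec chevE8 8 u = vec chevE8 8 r' + vec chevE8 8 s')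
    (hD : ∀ x ∈ CL W, ∀ y ∈ CL W, x ≠ 0 → y ≠ 0 → x + y = vec chevE8 8 u →
      x = vec chevE8 8 r ∨ x = vec chevE8 8 s ∨ x = vec chevE8 8 r' ∨ x = vec chevE8 8 s')
    {g g' : GK} (hg : g ∈ W) (hg' : g' ∈ W) :
    ((Ncf r.val s.val u.val : ℤ) : K8) * (cf r (mx g) * cf s (mx g') - cf r (mx g') * cf s (mx g)) +
    ((Ncf r'.val s'.val u.val : ℤ) : K8) * (cf r' (mx g) * cf s' (mx g') - cf r' (mx g') * cf s' (mx g)) = 0 := by
  have hinj : ∀ a b : Fin chevE8.nroots, vec chevE8 8 a = vec chevE8 8 b → a = b := fun a b e =>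
    Fin.ext (vec_inj e8T a.2 b.2 e)
  simp only [List.nodup_cons, List.mem_cons, List.not_mem_nil, or_false, not_or, List.nodup_nil, and_true,
    not_false_eq_true] at hne
  obtain ⟨⟨h12, h13, h14⟩, ⟨h23, h24⟩, h34⟩ := hne
  have h1 := rel_gen hW hc (vec_ne_zero u) (D := {vec chevE8 8 r, vec chevE8 8 s, vec chevE8 8 r', vec chevE8 8 s'}) (by
      simp only [Finset.mem_insert, Finset.mem_singleton, not_or]
      exact ⟨(vec_ne_zero r).symm, (vec_ne_zero s).symm, (vec_ne_zero r').symm, (vec_ne_zero s').symm⟩) (by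
      simp only [Finset.mem_insert, Finset.mem_singleton, not_or]
      refine ⟨?_, ?_, ?_, ?_⟩
      · rw [hv]; exact fun e => vec_ne_zero s (add_eq_left.1 e)
      · rw [hv]; exact fun e => vec_ne_zero r (add_eq_right.1 e)
      · rw [hv']; exact fun e => vec_ne_zero s' (add_eq_left.1 e)
      · rw [hv']; exact fun e => vec_ne_zero r' (add_eq_right.1 e))
    (fun x hx y hy hx0 hy0 e => by
      simp only [Finset.mem_insert, Finset.mem_singleton]
      exact hD x hx y hy hx0 hy0 e) hg hg'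
  have e1 : vec chevE8 8 r ∉ ({vec chevE8 8 s, vec chevE8 8 r', vec chevE8 8 s'} : Finset Q8) := by
    simp only [Finset.mem_insert, Finset.mem_singleton, not_or]
    exact ⟨fun e => h12 (hinj _ _ e), fun e => h13 (hinj _ _ e), fun e => h14 (hinj _ _ e)⟩
  have e2 : vec chevE8 8 s ∉ ({vec chevE8 8 r', vec chevE8 8 s'} : Finset Q8) := by
    simp only [Finset.mem_insert, Finset.mem_singleton, not_or]
    exact ⟨fun e => h23 (hinj _ _ e), fun e => h24 (hinj _ _ e)⟩
  have e3 : vec chevE8 8 r' ≠ vec chevE8 8 s' := fun e => h34 (hinj _ _ e)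
  have d1 : vec chevE8 8 u - vec chevE8 8 r = vec chevE8 8 s := by rw [hv]; abel
  have d2 : vec chevE8 8 u - vec chevE8 8 s = vec chevE8 8 r := by rw [hv]; abel
  have d3 : vec chevE8 8 u - vec chevE8 8 r' = vec chevE8 8 s' := by rw [hv']; abel
  have d4 : vec chevE8 8 u - vec chevE8 8 s' = vec chevE8 8 r' := by rw [hv']; abel
  rw [Finset.sum_insert e1, Finset.sum_insert e2, Finset.sum_pair e3, Finset.sum_insert e1, Finset.sum_insert e2,
    Finset.sum_pair e3, d1, d2, d3, d4,
    cp_eq hW hr hg, cp_eq hW hr hg', cp_eq hW hs hg, cp_eq hW hs hg',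
    cp_eq hW hr' hg, cp_eq hW hr' hg', cp_eq hW hs' hg, cp_eq hW hs' hg'] at h1
  have b1 := brk (fun e => h12 e.symm) hsn hv
  have b2 := brk (fun e => h34 e.symm) hsn' hv'
  set A := adR chevE8 K8 (Sum.inr r)
  set B := adR chevE8 K8 (Sum.inr s)
  set A' := adR chevE8 K8 (Sum.inr r')
  set B' := adR chevE8 K8 (Sum.inr s')
  have h3 : (cf r (mx g) * cf s (mx g') - cf r (mx g') * cf s (mx g)) • (A * B - B * A) +
      (cf r' (mx g) * cf s' (mx g') - cf r' (mx g') * cf s' (mx g)) • (A' * B' - B' * A') = 0 := by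
    simp only [Matrix.smul_mul, Matrix.mul_smul, smul_smul] at h1
    rw [smul_sub, sub_smul, sub_smul, smul_sub, sub_smul, sub_smul]
    rw [← sub_eq_zero] at h1
    rw [← h1, mul_comm (cf s (mx g')) (cf r (mx g)), mul_comm (cf s (mx g)) (cf r (mx g')),
      mul_comm (cf s' (mx g')) (cf r' (mx g)), mul_comm (cf s' (mx g)) (cf r' (mx g'))]
    abel
  rw [b1, b2, smul_smul, smul_smul, ← add_smul, smul_eq_zero] at h3
  have h4 := h3.resolve_right (adR_ne_zero u)
  rw [← h4]
  ring

end U

end Cfsg.Agent.H288.E8L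
end
end
end
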